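import Groth.Agent.L28.Fib.Diag

/-! Constructibility of loci of fibre morphisms. -/

set_option autoImplicit false
set_option linter.style.haveILetI false
universe u

open CategoryTheory CategoryTheory.Limits AlgebraicGeometry Topology

namespace Groth.L28.Fib

variable {X Y S : Scheme.{u}} (f : X ⟶ Y) (g : Y ⟶ S)
    [LocallyOfFinitePresentation g] [QuasiCompact g] [QuasiSeparated g]
    [LocallyOfFinitePresentation (f ≫ g)] [QuasiCompact (f ≫ g)] [QuasiSeparated (f ≫ g)]

theorem isLocallyConstructible_range {X Y : Scheme.{u}} (f : X ⟶ Y) [LocallyOfFinitePresentation f]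
    [QuasiCompact f] : IsLocallyConstructible (Set.range f) := by
  simpa [Set.image_univ] using f.isLocallyConstructible_image IsLocallyConstructible.univ

include g in
theorem range_diag_data : IsLocallyConstructible (Set.range (pullback.diagonal f)) ∧
    LocallyOfFinitePresentation ((pullback.snd f f ≫ f) ≫ g) ∧ QuasiCompact ((pullback.snd f f ≫ f) ≫ g) := by
  obtain ⟨hf, hq⟩ := lfp_qc_of_comp f g
  haveI : QuasiSeparated f := QuasiSeparated.of_comp f g
  haveI : LocallyOfFinitePresentation (pullback.diagonal f) :=
    Groth.L23.lfp_of_comp_lft (pullback.diagonal f) (pullback.fst f f) (by rw [pullback.diagonal_fst]; infer_instance)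
  exact ⟨isLocallyConstructible_range _, inferInstance, inferInstance⟩

theorem isLocallyConstructible_surjective :
    IsLocallyConstructible {s : S | Function.Surjective (fibMap f g s).base} := by
  obtain ⟨hf, hq⟩ := lfp_qc_of_comp f g
  simp only [surjective_fibMap_iff]
  have h := isLocallyConstructible_setOf_fibre_subset_empty g
    (isLocallyConstructible_compl (isLocallyConstructible_range f))
  convert h using 2
  simp

theorem isLocallyConstructible_isDominant :
    IsLocallyConstructible {s : S | IsDominant (fibMap f g s)} := by
  obtain ⟨hf, hq⟩ := lfp_qc_of_comp f g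
  simp only [isDominant_fibMap_iff]
  convert isLocallyConstructible_setOf_fibre_dense g (isLocallyConstructible_range f)
    IsLocallyConstructible.univ using 1
  simp

theorem isLocallyConstructible_universallyInjective :
    IsLocallyConstructible {s : S | UniversallyInjective (fibMap f g s)} := by
  obtain ⟨hr, hl, hq⟩ := range_diag_data f g
  simp only [universallyInjective_fibMap_iff]
  have h := isLocallyConstructible_setOf_fibre_subset_empty ((pullback.snd f f ≫ f) ≫ g)
    (isLocallyConstructible_compl hr)
  convert h using 2
  simp

theorem isLocallyConstructible_isSeparated :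
    IsLocallyConstructible {s : S | IsSeparated (fibMap f g s)} := by
  obtain ⟨hr, hl, hq⟩ := range_diag_data f g
  simp only [isSeparated_fibMap_iff]
  exact isLocallyConstructible_setOf_fibre_isClosed _ hr

theorem isLocallyConstructible_mono :
    IsLocallyConstructible {s : S | Mono (fibMap f g s)} := by
  obtain ⟨hf, hq⟩ := lfp_qc_of_comp f g
  simp only [mono_fibMap_iff]
  refine IsLocallyConstructible.inter (isLocallyConstructible_universallyInjective f g) ?_
  have h := isLocallyConstructible_setOf_fibre_subset_empty (f ≫ g)
    (isLocallyConstructible_compl (isLocallyConstructible_unramified f))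
  refine (congrArg IsLocallyConstructible (Set.ext fun s => ?_)).mp h
  exact ⟨fun H x hx => not_not.1 (H x hx), fun H x hx => not_not.2 (H x hx)⟩

end Groth.L28.Fib
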