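import Groth.Agent.L28.Fib.Data
import Groth.Agent.L20.GenericFreeness
import Mathlib.RingTheory.LocalRing.ResidueField.Fiber
import Mathlib.RingTheory.Spectrum.Prime.Chevalley
import Mathlib.Algebra.Category.Ring.Constructions
import Mathlib.RingTheory.Ideal.MinimalPrime.Localization

/-! The fibrewise closure of a constructible set is constructible. -/

set_option autoImplicit false
set_option linter.style.haveILetI false
universe u

open TensorProduct Topology PrimeSpectrum

namespace Groth.L28.Fib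

/-- The union of the closures of `Z` inside the fibres. -/
def fibClosure : SetProp.{u} := fun R A _ _ _ Z =>
  {q | q ∈ closure (Z ∩ comap (algebraMap R A) ⁻¹' {comap (algebraMap R A) q})}

theorem fibClosure_union (R A : Type u) [CommRing R] [CommRing A] [Algebra R A]
    (Z W : Set (PrimeSpectrum A)) : fibClosure R A (Z ∪ W) = fibClosure R A Z ∪ fibClosure R A W := by
  ext q
  simp only [fibClosure, Set.mem_ofPred_eq, Set.union_inter_distrib_right, closure_union, Set.mem_union]

theorem fibClosure_empty (R A : Type u) [CommRing R] [CommRing A] [Algebra R A] :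
    fibClosure R A (∅ : Set (PrimeSpectrum A)) = ∅ := by
  ext q; simp [fibClosure]

set_option maxHeartbeats 1000000 in
theorem fibClosure_bc : SetProp.BC.{u} fibClosure := by
  intro R A R' A' _ _ _ _ _ _ _ _ _ _ _ _ Z
  have hcomm : ∀ w : PrimeSpectrum A', comap (algebraMap R A) (comap (algebraMap A A') w) =
      comap (algebraMap R R') (comap (algebraMap R' A') w) := fun w => by
    rw [← comap_comp_apply, ← comap_comp_apply]
    exact congrArg (fun g => comap g w)
      ((IsScalarTower.algebraMap_eq R A A').symm.trans (IsScalarTower.algebraMap_eq R R' A'))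
  refine Set.ext fun q' => ⟨fun hq' => ?_, fun hq => ?_⟩
  · exact map_mem_closure (PrimeSpectrum.continuous_comap (algebraMap A A')) hq'
      fun w hw => ⟨hw.1, (hcomm w).trans ((congrArg (comap (algebraMap R R')) hw.2).trans (hcomm q').symm)⟩
  show q' ∈ closure _
  rw [mem_closure_iff]
  intro W hW hqW
  let q := comap (algebraMap A A') q'
  let p' := comap (algebraMap R' A') q'
  let p := comap (algebraMap R R') p'
  have hqp : comap (algebraMap R A) q = p := hcomm q'
  let κ := p.asIdeal.ResidueField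
  let κ' := p'.asIdeal.ResidueField
  letI : Algebra κ κ' := (Ideal.ResidueField.map p.asIdeal p'.asIdeal (algebraMap R R') rfl).toAlgebra
  let F := p.asIdeal.Fiber A
  let ψFa : F →ₐ[R] q'.asIdeal.ResidueField :=
    (Algebra.TensorProduct.lift
      (Ideal.ResidueField.mapₐ p.asIdeal q'.asIdeal (Algebra.ofId R A') (by
        show p.asIdeal = (comap (algebraMap R A') q').asIdeal
        rw [IsScalarTower.algebraMap_eq R R' A']; rfl))
      (IsScalarTower.toAlgHom R A q'.asIdeal.ResidueField) fun _ _ => Commute.all _ _)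
  let ψF : F →+* q'.asIdeal.ResidueField := ψFa.toRingHom
  let ψ' : κ' →+* q'.asIdeal.ResidueField :=
    Ideal.ResidueField.map p'.asIdeal q'.asIdeal (algebraMap R' A') rfl
  letI : Algebra κ q'.asIdeal.ResidueField := (ψ'.comp (algebraMap κ κ')).toAlgebra
  have hψF : ψF.comp (algebraMap κ F) = ψ'.comp (algebraMap κ κ') := by
    refine Ideal.ResidueField.ringHom_ext ?_
    ext r
    show ψFa (algebraMap κ F (algebraMap R κ r)) = ψ' (algebraMap κ κ' (algebraMap R κ r))
    rw [← IsScalarTower.algebraMap_apply R κ F, ψFa.commutes]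
    exact ((congrArg ψ' (Ideal.ResidueField.map_algebraMap p.asIdeal p'.asIdeal (algebraMap R R') rfl r)).trans
      ((Ideal.ResidueField.map_algebraMap p'.asIdeal q'.asIdeal (algebraMap R' A') rfl _).trans
        ((congrArg (algebraMap A' q'.asIdeal.ResidueField) (IsScalarTower.algebraMap_apply R R' A' r).symm).trans
          (IsScalarTower.algebraMap_apply R A' q'.asIdeal.ResidueField r).symm))).symm
  let ψT : F ⊗[κ] κ' →+* q'.asIdeal.ResidueField :=
    (Algebra.TensorProduct.lift (R := κ) (S := κ)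
      (A := F) (B := κ') (C := q'.asIdeal.ResidueField)
      ⟨ψF, fun x => RingHom.congr_fun hψF x⟩ ⟨ψ', fun _ => rfl⟩ fun _ _ => Commute.all _ _).toRingHom
  let iA : A →+* F ⊗[κ] κ' :=
    Algebra.TensorProduct.includeLeftRingHom.comp (Algebra.TensorProduct.includeRight : A →ₐ[R] F).toRingHom
  let iR' : R' →+* F ⊗[κ] κ' :=
    (Algebra.TensorProduct.includeRight : κ' →ₐ[κ] F ⊗[κ] κ').toRingHom.comp (algebraMap R' κ')
  have hw : iR'.comp (algebraMap R R') = iA.comp (algebraMap R A) := by
    ext r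
    show (1 : F) ⊗ₜ[κ] algebraMap R' κ' (algebraMap R R' r) =
      ((Algebra.TensorProduct.includeRight : A →ₐ[R] F) (algebraMap R A r)) ⊗ₜ[κ] (1 : κ')
    have h1 : algebraMap R' κ' (algebraMap R R' r) = algebraMap κ κ' (algebraMap R κ r) :=
      (Ideal.ResidueField.map_algebraMap _ _ _ rfl r).symm
    rw [AlgHom.commutes, IsScalarTower.algebraMap_apply R κ F, h1,
      Algebra.algebraMap_eq_smul_one (A := κ'), Algebra.algebraMap_eq_smul_one (A := F),
      TensorProduct.smul_tmul]
  have hpo := CommRingCat.isPushout_of_isPushout R R' A A'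
  let T : CommRingCat.{u} := CommRingCat.of (F ⊗[κ] κ')
  let cR : CommRingCat.of R' ⟶ T := CommRingCat.ofHom (S := F ⊗[κ] κ') iR'
  let cA : CommRingCat.of A ⟶ T := CommRingCat.ofHom (S := F ⊗[κ] κ') iA
  let α : A' →+* F ⊗[κ] κ' := (hpo.desc cR cA (CommRingCat.hom_ext hw)).hom
  have hαR : α.comp (algebraMap R' A') = iR' :=
    congrArg CommRingCat.Hom.hom (hpo.inl_desc cR cA (CommRingCat.hom_ext hw))
  have hαA : α.comp (algebraMap A A') = iA :=
    congrArg CommRingCat.Hom.hom (hpo.inr_desc cR cA (CommRingCat.hom_ext hw))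
  have hψα : ψT.comp α = algebraMap A' q'.asIdeal.ResidueField := by
    refine congrArg CommRingCat.Hom.hom (hpo.hom_ext
      (k := CommRingCat.ofHom (ψT.comp α)) (l := CommRingCat.ofHom (algebraMap A' q'.asIdeal.ResidueField)) ?_ ?_)
    · refine CommRingCat.hom_ext ?_
      show (ψT.comp α).comp (algebraMap R' A') = _
      rw [RingHom.comp_assoc, hαR]
      ext r
      show ψT ((1 : F) ⊗ₜ[κ] algebraMap R' κ' r) = algebraMap A' q'.asIdeal.ResidueField (algebraMap R' A' r)
      refine Eq.trans ?_ (Ideal.ResidueField.map_algebraMap p'.asIdeal q'.asIdeal (algebraMap R' A') rfl r)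
      exact (Algebra.TensorProduct.lift_tmul _ _ _ _ _).trans ((congrArg (· * _) (map_one ψF)).trans (one_mul _))
    · refine CommRingCat.hom_ext ?_
      show (ψT.comp α).comp (algebraMap A A') = _
      rw [RingHom.comp_assoc, hαA]
      ext a
      simp [ψT, iA, ψF, ψFa, F, ← IsScalarTower.algebraMap_apply]
  let Q : PrimeSpectrum (F ⊗[κ] κ') := ⟨RingHom.ker ψT, RingHom.ker_isPrime _⟩
  have hQ : comap α Q = q' := by
    refine PrimeSpectrum.ext ?_
    show (RingHom.ker ψT).comap α = q'.asIdeal
    rw [RingHom.comap_ker, hψα, Ideal.ker_algebraMap_residueField]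
  -- the two projections
  let o : PrimeSpectrum (F ⊗[κ] κ') → PrimeSpectrum F :=
    comap (R := F) (S := F ⊗[κ] κ') (algebraMap F (F ⊗[κ] κ'))
  let j := comap (Algebra.TensorProduct.includeRight : A →ₐ[R] F).toRingHom
  have hoj : ∀ t : PrimeSpectrum (F ⊗[κ] κ'), comap (algebraMap A A') (comap α t) = j (o t) := fun t => by
    rw [← comap_comp_apply, hαA]
    exact comap_comp_apply _ _ t
  have hfib : ∀ t : PrimeSpectrum (F ⊗[κ] κ'), comap (algebraMap R' A') (comap α t) = p' := fun t => by
    rw [← comap_comp_apply, hαR]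
    refine (comap_comp_apply _ _ t).trans ?_
    exact (residueField_comap _).le ⟨_, rfl⟩
  let U := o '' (comap α ⁻¹' W)
  have hU : IsOpen U :=
    PrimeSpectrum.isOpenMap_comap_algebraMap_tensorProduct_of_field _ (hW.preimage (PrimeSpectrum.continuous_comap (R := A') (S := F ⊗[κ] κ') α))
  have hQU : o Q ∈ U := ⟨Q, by rw [Set.mem_preimage, hQ]; exact hqW, rfl⟩
  let H := preimageHomeomorphFiber R A p
  obtain ⟨V, hV, hVU⟩ := isOpen_induced_iff.1 (hU.preimage H.continuous)
  have hHj : ∀ u : PrimeSpectrum F, ((H.symm u : comap (algebraMap R A) ⁻¹' {p}) : PrimeSpectrum A) = j u :=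
    fun u => rfl
  have hjq : j (o Q) = q := by rw [← hoj, hQ]
  have hqV : q ∈ V := by
    have : (H.symm (o Q)) ∈ Subtype.val ⁻¹' V := by rw [hVU, Set.mem_preimage, H.apply_symm_apply]; exact hQU
    rwa [Set.mem_preimage, hHj, hjq] at this
  obtain ⟨z, hzV, hzZ, hzp⟩ := mem_closure_iff.1 hq V hV hqV
  have hzp' : comap (algebraMap R A) z = p := (Set.mem_singleton_iff.1 hzp).trans hqp
  have hzU : H ⟨z, hzp'⟩ ∈ U := by
    have : (⟨z, hzp'⟩ : comap (algebraMap R A) ⁻¹' {p}) ∈ H ⁻¹' U := by rw [← hVU]; exact hzV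
    exact this
  obtain ⟨t, htW, ht⟩ := hzU
  refine ⟨comap (R := A') (S := F ⊗[κ] κ') α t, htW, ?_, hfib t⟩
  show comap (algebraMap A A') (comap (R := A') (S := F ⊗[κ] κ') α t) ∈ Z
  rw [hoj, ← hHj, ht, H.symm_apply_apply]
  exact hzZ

theorem exists_retraction {R L B Q : Type u} [CommRing R] [CommRing L] [Algebra R L] [Module.Flat R L]
    [AddCommGroup B] [Module R B] [AddCommGroup Q] [Module R Q] (mf : B →ₗ[R] B) (qm : B →ₗ[R] Q)
    (hmf : Function.Injective mf) (hex : Function.Exact mf qm) (hqm : Function.Surjective qm)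
    [Module.Projective L (L ⊗[R] Q)] :
    ∃ r : L ⊗[R] B →ₗ[R] L ⊗[R] B, r.comp (mf.lTensor L) = LinearMap.id := by
  have hexL : Function.Exact (mf.baseChange L) (qm.baseChange L) := lTensor_exact L hex hqm
  have hinjL : Function.Injective (mf.baseChange L) :=
    Module.Flat.lTensor_preserves_injective_linearMap mf hmf
  obtain ⟨s, hs⟩ := Module.projective_lifting_property (qm.baseChange L) LinearMap.id
    (LinearMap.lTensor_surjective L hqm)
  let r₁ : L ⊗[R] B →ₗ[L] LinearMap.range (mf.baseChange L) :=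
    (LinearMap.id - s.comp (qm.baseChange L)).codRestrict _ fun y => (hexL _).1 (by
      rw [LinearMap.sub_apply, map_sub, LinearMap.id_apply, LinearMap.comp_apply,
        show qm.baseChange L (s (qm.baseChange L y)) = qm.baseChange L y from LinearMap.congr_fun hs _,
        sub_self])
  refine ⟨((LinearEquiv.ofInjective _ hinjL).symm.toLinearMap.comp r₁).restrictScalars R, LinearMap.ext fun y => ?_⟩
  apply hinjL
  show mf.baseChange L ((LinearEquiv.ofInjective _ hinjL).symm (r₁ (mf.baseChange L y))) = _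
  rw [← LinearEquiv.ofInjective_apply _ (h := hinjL), LinearEquiv.apply_symm_apply]
  show mf.baseChange L y - s (qm.baseChange L (mf.baseChange L y)) = _
  rw [(hexL _).2 ⟨y, rfl⟩, map_zero, sub_zero]
  rfl

theorem lTensor_injective_of_retraction {R L K B : Type u} [CommRing R] [CommRing L] [Algebra R L]
    [CommRing K] [Algebra R K] (ι : L →ₐ[R] K) [AddCommGroup B] [Module R B] (mf : B →ₗ[R] B)
    (r : L ⊗[R] B →ₗ[R] L ⊗[R] B) (hr : r.comp (mf.lTensor L) = LinearMap.id) :
    Function.Injective (mf.lTensor K) := by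
  let Φ : K ⊗[R] B →ₗ[R] K ⊗[R] (L ⊗[R] B) := (TensorProduct.mk R L B 1).lTensor K
  let Ψ : K ⊗[R] (L ⊗[R] B) →ₗ[R] K ⊗[R] B :=
    ((LinearMap.mul' R K).comp (ι.toLinearMap.lTensor K)).rTensor B ∘ₗ
      (TensorProduct.assoc R K L B).symm.toLinearMap
  have hΨ : Ψ.comp Φ = LinearMap.id := by
    ext k b
    simp [Ψ, Φ]
  have hM : Φ.comp (mf.lTensor K) = ((mf.lTensor L).lTensor K).comp Φ := by
    ext k b
    simp [Φ]
  refine Function.LeftInverse.injective (g := fun y => Ψ (r.lTensor K (Φ y))) fun x => ?_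
  show Ψ (r.lTensor K (Φ (mf.lTensor K x))) = x
  rw [show Φ (mf.lTensor K x) = (mf.lTensor L).lTensor K (Φ x) from LinearMap.congr_fun hM x,
    ← LinearMap.comp_apply (r.lTensor K), ← LinearMap.lTensor_comp, hr, LinearMap.lTensor_id, LinearMap.id_apply]
  exact LinearMap.congr_fun hΨ x

/-- A nonzerodivisor stays regular on fibres over the locus where the quotient is free. -/
theorem exists_isSMulRegular_fibre {R B : Type u} [CommRing R] [IsDomain R]
    [CommRing B] [Algebra R B] [Algebra.FiniteType R B] (g : B) (hg : IsSMulRegular B g) :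
    ∃ a : R, a ≠ 0 ∧ ∀ (K : Type u) [CommRing K] [Algebra R K], IsUnit (algebraMap R K a) →
      ∀ x : K ⊗[R] B, (1 ⊗ₜ g) * x = 0 → x = 0 := by
  obtain ⟨a, ha, hfree, -⟩ := Groth.L20.GF.exists_free_and_nearlyFP (R := R) (S := B) (B ⧸ Ideal.span {g})
  refine ⟨a, ha, fun K _ _ haK x hx => ?_⟩
  have hex : Function.Exact (LinearMap.mulLeft R g) (((Ideal.span {g}).mkQ).restrictScalars R) := fun y => by
    show Submodule.Quotient.mk y = 0 ↔ _
    rw [Submodule.Quotient.mk_eq_zero, Ideal.mem_span_singleton]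
    exact ⟨fun ⟨c, hc⟩ => ⟨c, hc.symm⟩, fun ⟨c, hc⟩ => ⟨c, hc.symm⟩⟩
  obtain ⟨r, hr⟩ := exists_retraction (L := Localization.Away a) (LinearMap.mulLeft R g)
    (((Ideal.span {g}).mkQ).restrictScalars R) hg hex (Submodule.mkQ_surjective (Ideal.span {g}))
  let ι : Localization.Away a →ₐ[R] K :=
    IsLocalization.liftAlgHom (M := Submonoid.powers a) (f := Algebra.ofId R K)
      fun y => by obtain ⟨_, n, rfl⟩ := y; simpa using haK.pow n
  have he : ∀ y : K ⊗[R] B, (LinearMap.mulLeft R g).lTensor K y = (1 ⊗ₜ g) * y := fun y => by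
    induction y using TensorProduct.induction_on with
    | zero => simp
    | tmul k b => simp
    | add _ _ h1 h2 => rw [map_add, h1, h2, mul_add]
  exact lTensor_injective_of_retraction ι _ r hr (((he x).trans hx).trans (map_zero _).symm)

theorem fibClosure_generic_piece {R A : Type u} [CommRing R] [IsDomain R] [IsNoetherianRing R] [CommRing A]
    [Algebra R A] [Algebra.FiniteType R A] (I : Ideal A) (g : A) :
    ∃ a : R, a ≠ 0 ∧ IsConstructible (fibClosure R A (zeroLocus I \ zeroLocus {g}) ∩
      comap (algebraMap R A) ⁻¹' (basicOpen a : Set (PrimeSpectrum R))) := by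
  haveI : IsNoetherianRing A := Algebra.FiniteType.isNoetherianRing R A
  let J : Ideal A := RingHom.ker ((algebraMap (A ⧸ I) (Localization.Away (Ideal.Quotient.mk I g))).comp
    (Ideal.Quotient.mk I))
  have hJ : ∀ x, x ∈ J ↔ ∃ n : ℕ, g ^ n * x ∈ I := fun x => by
    rw [RingHom.mem_ker, RingHom.comp_apply, IsLocalization.map_eq_zero_iff (Submonoid.powers (Ideal.Quotient.mk I g))]
    simp only [Subtype.exists, Submonoid.mem_powers_iff, exists_prop, exists_exists_eq_and, ← map_pow, ← map_mul,
      Ideal.Quotient.eq_zero_iff_mem]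
  have hg : IsSMulRegular (A ⧸ J) (Ideal.Quotient.mk J g) := by
    intro x y hxy
    obtain ⟨x, rfl⟩ := Ideal.Quotient.mk_surjective x
    obtain ⟨y, rfl⟩ := Ideal.Quotient.mk_surjective y
    simp only [smul_eq_mul, ← map_mul, Ideal.Quotient.mk_eq_mk_iff_sub_mem, ← mul_sub, hJ] at hxy
    obtain ⟨n, hn⟩ := hxy
    rw [Ideal.Quotient.mk_eq_mk_iff_sub_mem, hJ]
    exact ⟨n + 1, by rwa [pow_succ, mul_assoc]⟩
  obtain ⟨a, ha, hreg⟩ := exists_isSMulRegular_fibre (R := R) (Ideal.Quotient.mk J g) hg
  refine ⟨a, ha, ?_⟩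
  have hZJ : zeroLocus (I : Set A) \ zeroLocus {g} ⊆ zeroLocus (J : Set A) := by
    rintro q ⟨hqI, hqg⟩ x hx
    obtain ⟨n, hn⟩ := (hJ x).1 hx
    rcases q.2.mem_or_mem (hqI hn) with h | h
    · exact absurd (fun y hy => Set.mem_singleton_iff.1 hy ▸ q.2.mem_of_pow_mem n h) hqg
    · exact h
  have heq : fibClosure R A (zeroLocus I \ zeroLocus {g}) ∩
      comap (algebraMap R A) ⁻¹' (basicOpen a : Set (PrimeSpectrum R)) =
      zeroLocus (J : Set A) ∩ comap (algebraMap R A) ⁻¹' (basicOpen a : Set (PrimeSpectrum R)) := by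
    refine Set.ext fun q => ⟨fun ⟨hq, hqa⟩ => ⟨?_, hqa⟩, fun ⟨hqJ, hqa⟩ => ⟨?_, hqa⟩⟩
    · exact (isClosed_zeroLocus _).closure_subset_iff.2 (Set.inter_subset_left.trans hZJ) hq
    let p := comap (algebraMap R A) q
    obtain ⟨qb, hqb⟩ : q ∈ Set.range (comap (Ideal.Quotient.mk J)) := by
      rw [range_comap_of_surjective _ _ Ideal.Quotient.mk_surjective, Ideal.mk_ker]; exact hqJ
    have hqbp : comap (algebraMap R (A ⧸ J)) qb = p := by
      rw [show p = comap (algebraMap R A) (comap (Ideal.Quotient.mk J) qb) by rw [hqb],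
        ← comap_comp_apply]; rfl
    let Qf := preimageEquivFiber R (A ⧸ J) p ⟨qb, hqbp⟩
    obtain ⟨m, hm, hmQ⟩ := Ideal.exists_minimalPrimes_le (I := (⊥ : Ideal (p.asIdeal.Fiber (A ⧸ J))))
      (J := Qf.asIdeal) bot_le
    have hgm : ((1 : p.asIdeal.ResidueField) ⊗ₜ[R] Ideal.Quotient.mk J g : p.asIdeal.Fiber (A ⧸ J)) ∉ m := by
      refine fun h => notMem_nonZeroDivisors_of_mem_mem_minimalPrimes h hm
        (mem_nonZeroDivisors_iff_right.mpr fun y hy => hreg _ ?_ y (by rwa [mul_comm]))
      exact isUnit_iff_ne_zero.mpr (Ideal.algebraMap_residueField_eq_zero.not.mpr hqa)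
    haveI := hm.isPrime
    let Mf : PrimeSpectrum (p.asIdeal.Fiber (A ⧸ J)) := ⟨m, inferInstance⟩
    let z := comap (Ideal.Quotient.mk J) ((preimageEquivFiber R (A ⧸ J) p).symm Mf).1
    have hzq : z ⤳ q := by
      rw [← PrimeSpectrum.le_iff_specializes, ← hqb]
      have h : ((preimageEquivFiber R (A ⧸ J) p).symm Mf).1 ≤ qb := by
        rw [show qb = ((preimageEquivFiber R (A ⧸ J) p).symm Qf).1 by simp [Qf]]
        exact Ideal.comap_mono hmQ
      exact Ideal.comap_mono h
    refine closure_mono (Set.singleton_subset_iff.2 ?_) hzq.mem_closure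
    refine ⟨⟨fun x hx => ?_, fun h => hgm (h rfl)⟩, ?_⟩
    · show Ideal.Quotient.mk J x ∈ ((preimageEquivFiber R (A ⧸ J) p).symm Mf).1.asIdeal
      rw [Ideal.Quotient.eq_zero_iff_mem.2 ((hJ x).2 ⟨0, by simpa using hx⟩)]
      exact zero_mem _
    · have := ((preimageEquivFiber R (A ⧸ J) p).symm Mf).2
      rw [Set.mem_preimage, Set.mem_singleton_iff] at this ⊢
      rw [← comap_comp_apply]
      exact this
  rw [heq]
  exact (Groth.L06.Constr.isConstructible_of_isClosed (isClosed_zeroLocus _)).inter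
    (Groth.L06.Constr.isConstructible_of_isOpen ((basicOpen a).2.preimage (PrimeSpectrum.continuous_comap _)))

theorem fibClosure_generic : SetProp.Generic.{u} fibClosure := by
  intro R A _ _ _ _ _ _ Z hZ
  classical
  obtain ⟨d, rfl⟩ := exists_constructibleSetData_iff.mpr hZ
  induction d using Finset.induction with
  | empty => exact ⟨1, one_ne_zero, by simp [ConstructibleSetData.toSet, fibClosure_empty]⟩
  | insert C d _ ih =>
    obtain ⟨a, ha, hC⟩ := fibClosure_generic_piece (R := R) (Ideal.span (Set.range C.g)) C.f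
    obtain ⟨b, hb, hd⟩ := ih (ConstructibleSetData.isConstructible_toSet _)
    refine ⟨a * b, mul_ne_zero ha hb, ?_⟩
    rw [show ConstructibleSetData.toSet (insert C d) = C.toSet ∪ ConstructibleSetData.toSet d from
      Finset.set_biUnion_insert _ _ _, fibClosure_union, basicOpen_mul, TopologicalSpace.Opens.coe_inf,
      Set.preimage_inter, Set.union_inter_distrib_right, ← Set.inter_assoc, Set.inter_comm (comap _ ⁻¹' _),
      ← Set.inter_assoc (fibClosure R A _)]
    haveI : IsNoetherianRing A := Algebra.FiniteType.isNoetherianRing R A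
    have hDb : IsConstructible (comap (algebraMap R A) ⁻¹' (basicOpen b : Set (PrimeSpectrum R))) :=
      Groth.L06.Constr.isConstructible_of_isOpen ((basicOpen b).2.preimage (PrimeSpectrum.continuous_comap _))
    have hDa : IsConstructible (comap (algebraMap R A) ⁻¹' (basicOpen a : Set (PrimeSpectrum R))) :=
      Groth.L06.Constr.isConstructible_of_isOpen ((basicOpen a).2.preimage (PrimeSpectrum.continuous_comap _))
    rw [zeroLocus_span] at hC
    exact (hC.inter hDb).union (hd.inter hDa)

/-- The fibrewise closure of a constructible set is constructible. -/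
theorem isConstructible_fibClosure (R A : Type u) [CommRing R] [CommRing A] [Algebra R A]
    [Algebra.FinitePresentation R A] (Z : Set (PrimeSpectrum A)) (hZ : IsConstructible Z) :
    IsConstructible (fibClosure R A Z) :=
  isConstructible fibClosure_bc fibClosure_generic R A Z hZ

end Groth.L28.Fib
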