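import Groth.Agent.L28.Fib.Scheme
import Groth.Agent.L05.Point.UnramDescent
import Mathlib.AlgebraicGeometry.Morphisms.UniversallyInjective
import Mathlib.AlgebraicGeometry.Morphisms.IsIso
import Mathlib.AlgebraicGeometry.Morphisms.Separated

/-! The diagonal of the morphism induced on fibres. -/

set_option autoImplicit false
set_option linter.style.haveILetI false
set_option backward.isDefEq.respectTransparency.types false
set_option backward.isDefEq.respectTransparency false
universe u

open CategoryTheory CategoryTheory.Limits AlgebraicGeometry Topology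
open Groth.L05.Point (Nhd)

namespace Groth.L28.Fib

section Unramified

/-- The ring form of the unramified locus. -/
def unramSet : L02.Cons.PtProp.{u} := fun R A _ _ _ =>
  {q | Nhd @FormallyUnramified (Spec.map (CommRingCat.ofHom (algebraMap R A))) q}

theorem isOpen_setOf_nhd {X Y : Scheme.{u}} (f : X ⟶ Y) (P : MorphismProperty Scheme.{u}) :
    IsOpen {x : X | Nhd P f x} := by
  rw [isOpen_iff_forall_mem_open]
  rintro x ⟨U, hx, hU⟩
  exact ⟨U, fun y hy => ⟨U, hy, hU⟩, U.2, hx⟩

theorem unramSet_bc : L02.Cons.PtProp.BC.{u} unramSet := by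
  intro R A R' A' _ _ _ _ _ _ _ _ _ _ _ _ _
  haveI : LocallyOfFiniteType (Spec.map (CommRingCat.ofHom (algebraMap R A))) :=
    HasRingHomProperty.Spec_iff.mpr (RingHom.finiteType_algebraMap.mpr inferInstance)
  have sq := (isPullback_SpecMap_of_isPushout _ _ _ _ (CommRingCat.isPushout_of_isPushout R R' A A')).flip
  ext q
  exact ⟨fun h => Groth.L05.Point.nhd_formallyUnramified_of_isPullback sq h,
    fun h => Groth.L05.Point.nhd_of_isPullback sq q h⟩

theorem unramSet_generic : L02.Cons.PtProp.Generic.{u} unramSet := by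
  intro R A _ _ _ _ _ _
  haveI : IsNoetherianRing A := Algebra.FiniteType.isNoetherianRing R A
  refine ⟨1, one_ne_zero, ?_⟩
  rw [PrimeSpectrum.basicOpen_one, TopologicalSpace.Opens.coe_top, Set.preimage_univ, Set.inter_univ]
  exact Groth.L06.Constr.isConstructible_of_isOpen (X := PrimeSpectrum A) (isOpen_setOf_nhd (Spec.map (CommRingCat.ofHom (algebraMap R A))) @FormallyUnramified)

/-- The unramified locus of a morphism locally of finite presentation is locally constructible. -/
theorem isLocallyConstructible_unramified {X Y : Scheme.{u}} (f : X ⟶ Y) [LocallyOfFinitePresentation f] :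
    IsLocallyConstructible {x : X | Nhd @FormallyUnramified f x} := by
  refine L02.Cons.isLocallyConstructible_source f _ fun V hV U hU hUV => ?_
  algebraize [(f.appLE V U hUV).hom]
  haveI : Algebra.FinitePresentation Γ(Y, V) Γ(X, U) := f.finitePresentation_appLE hV hU hUV
  have h := L02.Cons.isConstructible unramSet_bc unramSet_generic Γ(Y, V) Γ(X, U)
  refine (?_ : hU.fromSpec ⁻¹' {x : X | Nhd @FormallyUnramified f x} = unramSet Γ(Y, V) Γ(X, U)) ▸ h
  ext q
  show Nhd @FormallyUnramified f (hU.fromSpec q) ↔ Nhd @FormallyUnramified (Spec.map (f.appLE V U hUV)) q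
  constructor
  · intro h
    obtain ⟨W, hW, hWu⟩ := Groth.L05.Point.nhd_openImm_comp f hU.fromSpec q h
    rw [← IsAffineOpen.SpecMap_appLE_fromSpec f hV hU hUV, ← Category.assoc] at hWu
    exact ⟨W, hW, FormallyUnramified.of_comp _ hV.fromSpec⟩
  · rintro ⟨W, hW, hWu⟩
    refine Groth.L05.Point.nhd_of_openImm f (W.ι ≫ hU.fromSpec) ⟨q, hW⟩ ?_
    rw [Category.assoc, ← IsAffineOpen.SpecMap_appLE_fromSpec f hV hU hUV, ← Category.assoc]
    exact MorphismProperty.comp_mem _ _ _ hWu inferInstance

end Unramified

variable {X Y S : Scheme.{u}} (f : X ⟶ Y) (g : Y ⟶ S) (s : S)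

local notation "ιX" => pullback.fst (f ≫ g) (S.fromSpecResidueField s)
local notation "ιY" => pullback.fst g (S.fromSpecResidueField s)
local notation "fs" => fibMap f g s

theorem isPullback_fibMap : IsPullback ιX fs f ιY :=
  IsPullback.of_bot (h₁₁ := ιX) (h₂₁ := ιY) (h₃₁ := S.fromSpecResidueField s) (v₂₁ := pullback.snd g _)
    (by rw [pullback.lift_snd]; exact IsPullback.of_hasPullback (f ≫ g) (S.fromSpecResidueField s))
    (pullback.lift_fst _ _ _).symm (IsPullback.of_hasPullback g (S.fromSpecResidueField s))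

/-- The comparison map on fibre products. -/
noncomputable def diagComp : pullback fs fs ⟶ pullback f f :=
  pullback.map fs fs f f ιX ιX ιY (pullback.lift_fst _ _ _) (pullback.lift_fst _ _ _)

theorem isPullback_diagComp_snd : IsPullback (diagComp f g s) (pullback.snd fs fs) (pullback.snd f f) ιX := by
  refine IsPullback.of_right (h₁₁ := diagComp f g s) (h₁₂ := pullback.fst f f) (h₂₁ := ιX) (h₂₂ := f) ?_
    (pullback.lift_snd _ _ _) (IsPullback.of_hasPullback f f)
  rw [show diagComp f g s ≫ pullback.fst f f = pullback.fst fs fs ≫ ιX from pullback.lift_fst _ _ _,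
    show ιX ≫ f = fs ≫ ιY from (pullback.lift_fst _ _ _).symm]
  exact (IsPullback.of_hasPullback fs fs).paste_horiz (isPullback_fibMap f g s)

theorem isPullback_diagComp :
    IsPullback (diagComp f g s) ((pullback.snd fs fs ≫ fs) ≫ pullback.snd g (S.fromSpecResidueField s))
      ((pullback.snd f f ≫ f) ≫ g) (S.fromSpecResidueField s) :=
  ((isPullback_diagComp_snd f g s).paste_vert (isPullback_fibMap f g s)).paste_vert (IsPullback.of_hasPullback _ _)

theorem diagComp_eq : (isPullback_diagComp f g s).isoPullback.hom ≫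
    ((pullback.snd f f ≫ f) ≫ g).fiberι s = diagComp f g s :=
  (isPullback_diagComp f g s).isoPullback_hom_fst

theorem range_diagComp : Set.range (diagComp f g s) = ((pullback.snd f f ≫ f) ≫ g) ⁻¹' {s} := by
  rw [← diagComp_eq f g s, ← Scheme.Hom.range_fiberι]
  ext w
  constructor
  · rintro ⟨z, rfl⟩
    exact ⟨_, (Scheme.Hom.comp_apply _ _ z).symm⟩
  · rintro ⟨z, rfl⟩
    obtain ⟨z', rfl⟩ := (isPullback_diagComp f g s).isoPullback.hom.surjective z
    exact ⟨z', Scheme.Hom.comp_apply _ _ z'⟩

theorem isEmbedding_diagComp : IsEmbedding (diagComp f g s) := by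
  rw [← diagComp_eq f g s]
  have h := (((pullback.snd f f ≫ f) ≫ g).fiberι s).isEmbedding.comp
    (isPullback_diagComp f g s).isoPullback.hom.isEmbedding
  exact h

theorem isPullback_diag : IsPullback ιX (pullback.diagonal fs) (pullback.diagonal f) (diagComp f g s) := by
  refine IsPullback.of_bot (v₂₁ := pullback.snd fs fs) (v₂₂ := pullback.snd f f) (h₃₁ := ιX) ?_ ?_
    (isPullback_diagComp_snd f g s)
  · rw [pullback.diagonal_snd, pullback.diagonal_snd]
    exact IsPullback.of_vert_isIso ⟨by simp⟩
  · apply pullback.hom_ext <;> simp [diagComp, pullback.lift_fst, pullback.lift_snd]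

theorem range_diagonal_fibMap :
    Set.range (pullback.diagonal fs) = diagComp f g s ⁻¹' Set.range (pullback.diagonal f) := by
  ext z
  constructor
  · rintro ⟨x, rfl⟩
    exact ⟨ιX x, by rw [← Scheme.Hom.comp_apply, (isPullback_diag f g s).w, Scheme.Hom.comp_apply]⟩
  · rintro ⟨x, hx⟩
    obtain ⟨x', -, h2⟩ := Scheme.exists_preimage_of_isPullback (isPullback_diag f g s) x z hx
    exact ⟨x', h2⟩

theorem universallyInjective_fibMap_iff : UniversallyInjective fs ↔
    ∀ w, ((pullback.snd f f ≫ f) ≫ g) w = s → w ∈ Set.range (pullback.diagonal f) := by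
  rw [UniversallyInjective.iff_diagonal, surjective_iff, ← Set.range_eq_univ, range_diagonal_fibMap,
    Set.preimage_eq_univ_iff, range_diagComp]
  rfl

theorem isSeparated_fibMap_iff : IsSeparated fs ↔
    IsClosed (Subtype.val ⁻¹' Set.range (pullback.diagonal f) :
      Set ↥(((pullback.snd f f ≫ f) ≫ g).base ⁻¹' {s})) := by
  have h1 : IsSeparated fs ↔ IsClosed (Set.range (pullback.diagonal fs)) :=
    ⟨fun h => (pullback.diagonal fs).isClosedEmbedding.isClosed_range,
      fun h => ⟨IsClosedImmersion.of_isPreimmersion _ h⟩⟩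
  rw [h1, range_diagonal_fibMap, isClosed_preimage_val]
  have he := isEmbedding_diagComp f g s
  rw [← closure_subset_iff_isClosed, he.closure_eq_preimage_closure_image, Set.image_preimage_eq_inter_range,
    range_diagComp, Set.inter_comm _ (Set.range (pullback.diagonal f))]
  constructor
  · rintro h w ⟨hw, hwc⟩
    obtain ⟨z, rfl⟩ := (range_diagComp f g s).ge hw
    exact h hwc
  · exact fun h z hz => h ⟨(range_diagComp f g s).le ⟨z, rfl⟩, hz⟩

theorem mono_fibMap_iff [LocallyOfFiniteType f] : Mono fs ↔
    UniversallyInjective fs ∧ ∀ x, (f ≫ g) x = s → Nhd @FormallyUnramified f x := by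
  haveI : LocallyOfFiniteType fs := MorphismProperty.of_isPullback (isPullback_fibMap f g s) inferInstance
  rw [UniversallyInjective.iff_diagonal, ← pullback.isIso_diagonal_iff, isIso_iff_isOpenImmersion_and_surjective,
    and_comm]
  refine and_congr_right fun _ => ⟨fun h x hx => ?_, fun h => ?_⟩
  · have : FormallyUnramified fs := inferInstance
    obtain ⟨x', rfl⟩ : x ∈ Set.range ιX := by rw [range_fst_fromSpecResidueField]; exact hx
    exact Groth.L05.Point.nhd_formallyUnramified_of_isPullback (isPullback_fibMap f g s)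
      ⟨⊤, trivial, IsZariskiLocalAtSource.comp (P := @FormallyUnramified) this _⟩
  · have : FormallyUnramified fs := by
      choose U hU hUu using fun z => Groth.L05.Point.nhd_of_isPullback (P := @FormallyUnramified)
        (isPullback_fibMap f g s) z (h (ιX z) ((range_fst_fromSpecResidueField (f ≫ g) s).le ⟨z, rfl⟩))
      exact IsZariskiLocalAtSource.iff_of_openCover
        (Scheme.openCoverOfIsOpenCover _ U (TopologicalSpace.IsOpenCover.mk
          (top_unique fun z _ => TopologicalSpace.Opens.mem_iSup.2 ⟨z, hU z⟩))) |>.2 hUu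
    infer_instance

end Groth.L28.Fib
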