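import Groth.Agent.L28.Fib.Scheme
import Groth.Agent.L28.Fib.Diag
import Groth.Agent.L18.UnivClosedAffineSpace
import Mathlib.AlgebraicGeometry.AffineSpace

/-! Universal closedness of fibre morphisms through images of closed sets in affine spaces. -/

set_option autoImplicit false
set_option linter.style.haveILetI false
set_option backward.isDefEq.respectTransparency.types false
universe u

open CategoryTheory CategoryTheory.Limits AlgebraicGeometry Topology

namespace Groth.L28.Fib

variable {X Y S : Scheme.{u}} (f : X ⟶ Y) (g : Y ⟶ S)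

/-- The projection of affine space. -/
noncomputable abbrev affProj (n : ℕ) : 𝔸(ULift.{u} (Fin n); Y) ⟶ Y := 𝔸(ULift.{u} (Fin n); Y) ↘ Y

/-- The image of `C` in affine space is closed in the fibre over `s`, at points over `U`. -/
def ClosedImage (U : Set Y) (n : ℕ) (C : Set ↥(pullback f (affProj (Y := Y) n))) (s : S) : Prop :=
  ∀ w, (affProj n ≫ g) w = s → affProj n w ∈ U →
    w ∈ fibCl (affProj n ≫ g) (pullback.snd f (affProj n) '' C) → w ∈ pullback.snd f (affProj n) '' C

theorem isLocallyConstructible_preimage {X Y : Scheme.{u}} (f : X ⟶ Y) {U : Set Y} (hU : IsLocallyConstructible U) :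
    IsLocallyConstructible (f ⁻¹' U) := by
  refine L02.Cons.isLocallyConstructible_source f _ fun V hV W hW hWV => ?_
  have h : hW.fromSpec ⁻¹' (f ⁻¹' U) = PrimeSpectrum.comap (f.appLE V W hWV).hom ⁻¹' (hV.fromSpec ⁻¹' U) := by
    ext q
    show f (hW.fromSpec q) ∈ U ↔ hV.fromSpec (Spec.map (f.appLE V W hWV) q) ∈ U
    rw [← Scheme.Hom.comp_apply, ← Scheme.Hom.comp_apply, IsAffineOpen.SpecMap_appLE_fromSpec f hV hW hWV]
  rw [h]
  exact L02.Cons.isConstructible_comap_preimage _
    (hU.preimage_of_isOpenEmbedding hV.fromSpec.isOpenEmbedding).isConstructible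

theorem isLocallyConstructible_closedImage [LocallyOfFinitePresentation g] [QuasiCompact g]
    [LocallyOfFinitePresentation f] [QuasiCompact f] {U : Set Y} (hU : IsLocallyConstructible U) (n : ℕ)
    {C : Set ↥(pullback f (affProj (Y := Y) n))} (hC : IsLocallyConstructible C) :
    IsLocallyConstructible {s : S | ClosedImage f g U n C s} := by
  have hI : IsLocallyConstructible (pullback.snd f (affProj n) '' C) :=
    (pullback.snd f (affProj n)).isLocallyConstructible_image hC
  have h := isLocallyConstructible_setOf_fibre_subset_empty (affProj n ≫ g)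
    (W := affProj n ⁻¹' U ∩ (fibCl (affProj n ≫ g) (pullback.snd f (affProj n) '' C) \
      pullback.snd f (affProj n) '' C))
    ((isLocallyConstructible_preimage _ hU).inter
      (isLocallyConstructible_diff (isLocallyConstructible_fibCl _ hI) hI))
  refine (congrArg IsLocallyConstructible (Set.ext fun s => ?_)).mp h
  exact ⟨fun H w hw hU hF => by_contra fun hI => H w hw ⟨hU, hF, hI⟩,
    fun H w hw ⟨hU, hF, hI⟩ => hI (H w hw hU hF)⟩

variable {f g} (s : S) {U : Set Y} (O : (pullback g (S.fromSpecResidueField s)).Opens)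
  (hO : (O : Set ↥(pullback g (S.fromSpecResidueField s))) = pullback.fst g (S.fromSpecResidueField s) ⁻¹' U)

local notation "ιY" => pullback.fst g (S.fromSpecResidueField s)
local notation "ιX" => pullback.fst (f ≫ g) (S.fromSpecResidueField s)
local notation "fO" => (fibMap f g s ∣_ O)

/-- The map from affine space over the open of the fibre. -/
noncomputable abbrev affToAff (n : ℕ) : 𝔸(ULift.{u} (Fin n); O) ⟶ 𝔸(ULift.{u} (Fin n); Y) :=
  AffineSpace.map _ (O.ι ≫ ιY)

theorem isEmbedding_affToAff (n : ℕ) : IsEmbedding (affToAff s O n) := by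
  haveI : IsPreimmersion (affToAff s O n) :=
    MorphismProperty.of_isPullback (AffineSpace.isPullback_map (n := ULift.{u} (Fin n)) (O.ι ≫ ιY)).flip
      (inferInstanceAs (IsPreimmersion (O.ι ≫ ιY)))
  exact (affToAff s O n).isEmbedding

include hO in
theorem mem_range_affToAff_iff (n : ℕ) (w : 𝔸(ULift.{u} (Fin n); Y)) :
    w ∈ Set.range (affToAff s O n) ↔ (affProj n ≫ g) w = s ∧ affProj n w ∈ U := by
  have hr : ∀ y, y ∈ Set.range ιY ↔ g y = s := fun y => by rw [range_fst_fromSpecResidueField]; rfl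
  constructor
  · rintro ⟨a, rfl⟩
    have e : affProj n (affToAff s O n a) = ιY (O.ι ((𝔸(ULift.{u} (Fin n); O) ↘ (O : Scheme.{u})) a)) := by
      rw [← Scheme.Hom.comp_apply, AffineSpace.map_over, Scheme.Hom.comp_apply, Scheme.Hom.comp_apply]
    rw [Scheme.Hom.comp_apply, e]
    refine ⟨(hr _).1 ⟨_, rfl⟩, ?_⟩
    exact hO.le (((𝔸(ULift.{u} (Fin n); O) ↘ (O : Scheme.{u})) a).2)
  · rintro ⟨hw, hwU⟩
    obtain ⟨y, hy⟩ := (hr _).2 hw
    have hyO : y ∈ (O : Set ↥(pullback g (S.fromSpecResidueField s))) := hO.ge (by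
      show ιY y ∈ U
      rw [hy]; exact hwU)
    obtain ⟨a, ha, -⟩ := Scheme.exists_preimage_of_isPullback
      (AffineSpace.isPullback_map (n := ULift.{u} (Fin n)) (O.ι ≫ ιY)) w (⟨y, hyO⟩ : O) (by
        rw [Scheme.Hom.comp_apply]; exact hy.symm)
    exact ⟨a, ha⟩

theorem exists_pullback_comparison (n : ℕ) :
    ∃ r : pullback fO (𝔸(ULift.{u} (Fin n); O) ↘ (O : Scheme.{u})) ⟶ pullback f (affProj n),
      IsPullback r (pullback.snd fO (𝔸(ULift.{u} (Fin n); O) ↘ (O : Scheme.{u})))
        (pullback.snd f (affProj n)) (affToAff s O n) := by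
  have sq1 : IsPullback ((fibMap f g s ⁻¹ᵁ O).ι ≫ ιX) fO f (O.ι ≫ ιY) :=
    (isPullback_morphismRestrict (fibMap f g s) O).flip.paste_horiz (isPullback_fibMap f g s)
  have h := (IsPullback.of_hasPullback fO (𝔸(ULift.{u} (Fin n); O) ↘ (O : Scheme.{u}))).paste_horiz sq1
  have hm : (𝔸(ULift.{u} (Fin n); O) ↘ (O : Scheme.{u})) ≫ O.ι ≫ ιY = affToAff s O n ≫ affProj n :=
    (AffineSpace.map_over (n := ULift.{u} (Fin n)) (O.ι ≫ ιY)).symm
  rw [hm] at h
  refine ⟨pullback.lift _ _ (h.w.trans (Category.assoc _ _ _).symm), ?_⟩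
  refine IsPullback.of_right ?_ (pullback.lift_snd _ _ _) (IsPullback.of_hasPullback f (affProj n))
  rw [pullback.lift_fst]
  exact h

include hO in
/-- Universal closedness over the open gives closed images. -/
theorem closedImage_of_universallyClosed [UniversallyClosed fO] (n : ℕ)
    {C : Set ↥(pullback f (affProj (Y := Y) n))} (hC : IsClosed C) : ClosedImage f g U n C s := by
  intro w hw hwU hwcl
  obtain ⟨r, hr⟩ := exists_pullback_comparison (f := f) s O n
  obtain ⟨a, rfl⟩ := (mem_range_affToAff_iff s O hO n w).2 ⟨hw, hwU⟩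
  rw [mem_fibCl_iff _ _ hw] at hwcl
  set P := pullback.snd fO (𝔸(ULift.{u} (Fin n); O) ↘ (O : Scheme.{u}))
  have hcl : IsClosed (P '' (r ⁻¹' C)) :=
    Groth.L18.isClosedMap_pullback_snd fO _ _ (hC.preimage r.continuous)
  suffices ha : a ∈ P '' (r ⁻¹' C) by
    obtain ⟨c, hc, rfl⟩ := ha
    exact ⟨r c, hc, by rw [← Scheme.Hom.comp_apply, hr.w, Scheme.Hom.comp_apply]⟩
  rw [← hcl.closure_eq, mem_closure_iff]
  intro N hN haN
  obtain ⟨V, hV, rfl⟩ := (isEmbedding_affToAff s O n).isInducing.isOpen_iff.1 hN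
  obtain ⟨U', hU', hOU'⟩ := (pullback.fst g (S.fromSpecResidueField s)).isEmbedding.isInducing.isOpen_iff.1 O.2
  have haU' : affProj n (affToAff s O n a) ∈ U' := by
    obtain ⟨y, hy⟩ : affProj n (affToAff s O n a) ∈ Set.range ιY := by
      rw [range_fst_fromSpecResidueField]; exact hw
    rw [← hy]
    refine hOU'.ge (hO.ge ?_)
    show ιY y ∈ U
    rw [hy]; exact hwU
  obtain ⟨v, ⟨hvV, hvU'⟩, ⟨c, hc, hcv⟩, hvs⟩ := mem_closure_iff.1 hwcl (V ∩ affProj n ⁻¹' U')
    (hV.inter (hU'.preimage (affProj n).continuous)) ⟨haN, haU'⟩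
  obtain ⟨y, hy⟩ : affProj n v ∈ Set.range ιY := by
    rw [range_fst_fromSpecResidueField]; exact hvs
  have hvU : affProj n v ∈ U := by
    rw [← hy]
    refine hO.le (hOU'.le ?_)
    show ιY y ∈ U'
    rw [hy]; exact hvU'
  obtain ⟨a', rfl⟩ := (mem_range_affToAff_iff s O hO n v).2 ⟨hvs, hvU⟩
  obtain ⟨d, hd1, hd2⟩ := Scheme.exists_preimage_of_isPullback hr c a' hcv
  exact ⟨a', hvV, d, by show r d ∈ C; rw [hd1]; exact hc, hd2⟩

include hO in
/-- Closed images give universal closedness over the open. -/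
theorem universallyClosed_of_closedImage [QuasiCompact f]
    (H : ∀ (n : ℕ) (W : Set ↥(pullback f (affProj (Y := Y) n))), IsOpen W → IsCompact W →
      ClosedImage f g U n Wᶜ s) : UniversallyClosed fO := by
  haveI : QuasiCompact (fibMap f g s) := MorphismProperty.of_isPullback (isPullback_fibMap f g s) inferInstance
  haveI : QuasiCompact fO := IsZariskiLocalAtTarget.restrict (P := @QuasiCompact) inferInstance O
  refine Groth.L18.universallyClosed_of_affineSpace fO fun n Z hZ => ?_
  obtain ⟨r, hr⟩ := exists_pullback_comparison (f := f) s O n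
  set P := pullback.snd fO (𝔸(ULift.{u} (Fin n); O) ↘ (O : Scheme.{u}))
  haveI : IsPreimmersion (affToAff s O n) :=
    MorphismProperty.of_isPullback (AffineSpace.isPullback_map (n := ULift.{u} (Fin n)) (O.ι ≫ ιY)).flip
      (inferInstanceAs (IsPreimmersion (O.ι ≫ ιY)))
  haveI : IsPreimmersion r := MorphismProperty.of_isPullback hr.flip inferInstance
  refine isClosed_of_closure_subset fun a ha => ?_
  by_contra hna
  set F := pullback.snd f (affProj n)
  let C₀ := closure (r '' Z)
  have hK : IsCompact (F ⁻¹' {affToAff s O n a}) := F.isCompact_preimage_singleton _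
  have hdisj : ∀ x ∈ F ⁻¹' {affToAff s O n a}, x ∉ C₀ := fun x hx hxC => by
    obtain ⟨d, hd1, hd2⟩ := Scheme.exists_preimage_of_isPullback hr x a hx
    refine hna ⟨d, ?_, hd2⟩
    rw [← hZ.closure_eq, r.isEmbedding.closure_eq_preimage_closure_image]
    show r d ∈ closure _
    rw [hd1]; exact hxC
  choose W hW hxW hWC using fun x : ↥(F ⁻¹' {affToAff s O n a}) =>
    TopologicalSpace.Opens.isBasis_iff_nbhd.mp (pullback f (affProj n)).isBasis_affineOpens
      (show x.1 ∈ (⟨C₀ᶜ, isClosed_closure.isOpen_compl⟩ : (pullback f (affProj n)).Opens) from hdisj x.1 x.2)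
  obtain ⟨t, ht⟩ := hK.elim_finite_subcover (fun x => (W x : Set ↥(pullback f (affProj n)))) (fun x => (W x).2)
    fun x hx => Set.mem_iUnion.2 ⟨⟨x, hx⟩, hxW ⟨x, hx⟩⟩
  let W' : Set ↥(pullback f (affProj n)) := ⋃ x ∈ t, (W x : Set ↥(pullback f (affProj n)))
  have hW'o : IsOpen W' := isOpen_biUnion fun x _ => (W x).2
  have hW'c : IsCompact W' := t.isCompact_biUnion fun x _ => (hW x).isCompact
  have hsub : r '' Z ⊆ W'ᶜ := fun y hy hy' => by
    obtain ⟨x, _, hx⟩ := Set.mem_iUnion₂.1 hy'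
    exact hWC x hx (subset_closure hy)
  have haR := (mem_range_affToAff_iff s O hO n _).1 ⟨a, rfl⟩
  obtain ⟨c, hc, hca⟩ := H n W' hW'o hW'c _ haR.1 haR.2 (by
    rw [mem_fibCl_iff _ _ haR.1]
    refine map_mem_closure (affToAff s O n).continuous ha ?_
    rintro _ ⟨z, hz, rfl⟩
    refine ⟨⟨r z, hsub ⟨z, hz, rfl⟩, ?_⟩, ((mem_range_affToAff_iff s O hO n _).1 ⟨_, rfl⟩).1⟩
    rw [← Scheme.Hom.comp_apply, hr.w, Scheme.Hom.comp_apply])
  exact hc (ht hca)

end Groth.L28.Fib
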