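import Groth.Agent.L28.Fib.FibAt
import Groth.Agent.L28.Fib.Main
import Mathlib.AlgebraicGeometry.Morphisms.FlatMono

/-! Constructibility of the étale and smooth loci of fibre morphisms. -/

set_option autoImplicit false
set_option linter.style.haveILetI false
set_option backward.isDefEq.respectTransparency.types false
set_option backward.isDefEq.respectTransparency false
universe u

open CategoryTheory CategoryTheory.Limits AlgebraicGeometry Topology
open Groth.L05.Point

namespace Groth.L28.Fib

theorem isGoodProp_smooth : IsGoodProp.{u} @Smooth where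
  bc := inferInstance
  loc := inferInstance
  cancel f j _ h := MorphismProperty.of_isPullback (P := @Smooth) (isPullback_of_mono f j) h
  comp f j _ h := MorphismProperty.comp_mem _ _ _ h inferInstance
  descend sq _ _ _ h := nhd_smooth_of_isPullback sq h
  generic f g h w _ _ x hflat x' hx' := nhd_smooth_iff f g h w x hflat x' hx'

theorem isGoodProp_etale : IsGoodProp.{u} @Etale where
  bc := inferInstance
  loc := inferInstance
  cancel f j _ h := MorphismProperty.of_isPullback (P := @Etale) (isPullback_of_mono f j) h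
  comp f j _ h := MorphismProperty.comp_mem _ _ _ h inferInstance
  descend {_ _ _ _ q φ' φ g} sq _ _ z h := by
    obtain ⟨U, hz, hU⟩ := h
    have h1 := nhd_formallyUnramified_of_isPullback sq (z := z) ⟨U, hz, inferInstance⟩
    have h2 := flat_of_nhd_smooth φ (nhd_smooth_of_isPullback sq (z := z) ⟨U, hz, inferInstance⟩)
    exact (nhd_etale_iff φ _).2 ⟨h1, h2⟩
  generic f g h w _ _ x hflat x' hx' := nhd_etale_iff_fiberMapOver f g h w x hflat x' hx'

section Smooth

theorem nhd_smooth_iff_mem_smoothLocus {X Y : Scheme.{u}} (f : X ⟶ Y) [LocallyOfFinitePresentation f] (x : X) :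
    Nhd @Smooth f x ↔ x ∈ f.smoothLocus := by
  constructor
  · rintro ⟨U, hx, hU⟩
    have h : (⟨x, hx⟩ : U) ∈ U.ι ⁻¹ᵁ f.smoothLocus := by
      rw [Scheme.Hom.preimage_smoothLocus_eq, Scheme.Hom.smoothLocus_eq_top]
      trivial
    exact h
  · intro h
    refine ⟨f.smoothLocus, h, Scheme.Hom.smoothLocus_eq_top_iff.1 ?_⟩
    rw [← Scheme.Hom.preimage_smoothLocus_eq, Scheme.Opens.ι_preimage_self]

theorem fibAt_smooth_id_iff {X S : Scheme.{u}} (f : X ⟶ S) (x : X) :
    FibAt @Smooth f (𝟙 S) f (Category.comp_id f) x ↔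
      Nhd @Smooth (f.fiberToSpecResidueField (f x)) (f.asFiber x) := by
  haveI : IsIso ((𝟙 S : S ⟶ S).fiberToSpecResidueField (f x)) :=
    (IsPullback.of_hasPullback (𝟙 S) (S.fromSpecResidueField (f x))).isIso_snd_of_isIso
  have he : f.fiberToSpecResidueField (f x) =
      CohIII.fiberMapOver f f (𝟙 S) (Category.comp_id f) (f x) ≫ (𝟙 S : S ⟶ S).fiberToSpecResidueField (f x) :=
    ((pullback.lift_snd _ _ _).trans (Category.comp_id _)).symm
  rw [he]
  exact ⟨fun ⟨W, hW, hP⟩ => ⟨W, hW, by rw [← Category.assoc]; exact MorphismProperty.comp_mem _ _ _ hP inferInstance⟩,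
    fun ⟨W, hW, hP⟩ => ⟨W, hW, isGoodProp_smooth.cancel _ ((𝟙 S : S ⟶ S).fiberToSpecResidueField (f x))
      (by rw [Category.assoc]; exact hP)⟩⟩

theorem isLocallyConstructible_fibre_smoothLocus {X S : Scheme.{u}} (f : X ⟶ S)
    [LocallyOfFinitePresentation f] [∀ s : S, LocallyOfFinitePresentation (f.fiberToSpecResidueField s)] :
    IsLocallyConstructible {x : X | f.asFiber x ∈ (f.fiberToSpecResidueField (f.base x)).smoothLocus} := by
  refine (congrArg IsLocallyConstructible (Set.ext fun x => ?_)).mp
    (isLocallyConstructible_fibAt isGoodProp_smooth f (𝟙 S) f (Category.comp_id f))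
  exact (fibAt_smooth_id_iff f x).trans (nhd_smooth_iff_mem_smoothLocus _ _)

end Smooth

variable {X Y S : Scheme.{u}} (f : X ⟶ Y) (g : Y ⟶ S)

theorem fiberMapOver_eq_fibMap (s : S) : CohIII.fiberMapOver f (f ≫ g) g rfl s = fibMap f g s := by
  refine pullback.hom_ext ?_ ?_
  · exact (pullback.lift_fst _ _ _).trans (pullback.lift_fst _ _ _).symm
  · exact ((pullback.lift_snd _ _ _).trans (Category.comp_id _)).trans (pullback.lift_snd _ _ _).symm

theorem fibAt_iff_fibMap (P : MorphismProperty Scheme.{u}) (s : S)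
    (z : ↥(pullback (f ≫ g) (S.fromSpecResidueField s))) :
    FibAt P f g (f ≫ g) rfl (pullback.fst (f ≫ g) (S.fromSpecResidueField s) z) ↔ Nhd P (fibMap f g s) z := by
  refine (fibAt_iff P f g (f ≫ g) rfl (s := s) z rfl).trans ?_
  rw [fiberMapOver_eq_fibMap]
  rfl

theorem isOpenImmersion_fibMap_iff [LocallyOfFinitePresentation f] (s : S) :
    IsOpenImmersion (fibMap f g s) ↔
      Mono (fibMap f g s) ∧ ∀ x, (f ≫ g) x = s → FibAt @Etale f g (f ≫ g) rfl x := by
  haveI : LocallyOfFinitePresentation (fibMap f g s) :=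
    MorphismProperty.of_isPullback (isPullback_fibMap f g s) inferInstance
  constructor
  · intro h
    refine ⟨inferInstance, fun x hx => ?_⟩
    obtain ⟨z, rfl⟩ : x ∈ Set.range (pullback.fst (f ≫ g) (S.fromSpecResidueField s)) := by
      rw [range_fst_fromSpecResidueField]; exact hx
    exact (fibAt_iff_fibMap f g @Etale s z).2 (nhd_of_openImm (P := @Etale) _ (𝟙 _) z (by
      rw [Category.id_comp]; infer_instance))
  · rintro ⟨_, h⟩
    haveI : Flat (fibMap f g s) := (Flat.iff_flat_stalkMap _).mpr fun z => by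
      obtain ⟨U, hz, hU⟩ := (fibAt_iff_fibMap f g @Etale s z).1
        (h _ ((range_fst_fromSpecResidueField (f ≫ g) s).le ⟨z, rfl⟩))
      exact flat_of_nhd _ ⟨U, hz, inferInstance⟩
    exact IsOpenImmersion.of_flat_of_mono _

variable [LocallyOfFinitePresentation g] [QuasiCompact g] [QuasiSeparated g]
    [LocallyOfFinitePresentation (f ≫ g)] [QuasiCompact (f ≫ g)] [QuasiSeparated (f ≫ g)]

theorem isLocallyConstructible_isOpenImmersion :
    IsLocallyConstructible {s : S | IsOpenImmersion (fibMap f g s)} := by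
  obtain ⟨hf, hq⟩ := lfp_qc_of_comp f g
  simp only [isOpenImmersion_fibMap_iff]
  refine IsLocallyConstructible.inter (isLocallyConstructible_mono f g) ?_
  have h := isLocallyConstructible_setOf_fibre_subset_empty (f ≫ g)
    (isLocallyConstructible_compl (isLocallyConstructible_fibAt isGoodProp_etale f g (f ≫ g) rfl))
  refine (congrArg IsLocallyConstructible (Set.ext fun s => ?_)).mp h
  exact ⟨fun H x hx => not_not.1 (H x hx), fun H x hx => not_not.2 (H x hx)⟩

theorem isLocallyConstructible_isIso : IsLocallyConstructible {s : S | IsIso (fibMap f g s)} := by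
  simp only [isIso_iff_isOpenImmersion_and_surjective, surjective_iff]
  exact IsLocallyConstructible.inter (isLocallyConstructible_isOpenImmersion f g)
    (isLocallyConstructible_surjective f g)

end Groth.L28.Fib
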