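import Groth.Agent.L28.Fib.Closure
import Groth.Agent.L23.SchemeFacts
import Mathlib.AlgebraicGeometry.Fiber
import Mathlib.AlgebraicGeometry.Morphisms.QuasiSeparated
import Mathlib.Topology.LocallyClosed

/-! Fibrewise closure of a constructible set on a scheme. -/

set_option autoImplicit false
set_option linter.style.haveILetI false
universe u

open CategoryTheory CategoryTheory.Limits AlgebraicGeometry Topology

namespace Groth.L28.Fib

/-- The union of the closures of `Z` inside the fibres of `f`. -/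
def fibCl {X S : Scheme.{u}} (f : X ⟶ S) (Z : Set X) : Set X :=
  {x | x ∈ closure (Z ∩ f ⁻¹' {f x})}

theorem subset_fibCl {X S : Scheme.{u}} (f : X ⟶ S) (Z : Set X) : Z ⊆ fibCl f Z :=
  fun _ hx => subset_closure ⟨hx, rfl⟩

theorem mem_fibCl_iff {X S : Scheme.{u}} (f : X ⟶ S) (Z : Set X) {x : X} {s : S} (hx : f x = s) :
    x ∈ fibCl f Z ↔ x ∈ closure (Z ∩ f ⁻¹' {s}) := by
  subst hx; rfl

theorem isLocallyConstructible_fibCl {X S : Scheme.{u}} (f : X ⟶ S) [LocallyOfFinitePresentation f]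
    {Z : Set X} (hZ : IsLocallyConstructible Z) : IsLocallyConstructible (fibCl f Z) := by
  refine L02.Cons.isLocallyConstructible_source f _ fun V hV U hU hUV => ?_
  algebraize [(f.appLE V U hUV).hom]
  haveI : Algebra.FinitePresentation Γ(S, V) Γ(X, U) := f.finitePresentation_appLE hV hU hUV
  have hc := isConstructible_fibClosure Γ(S, V) Γ(X, U) _
    ((hZ.preimage_of_isOpenEmbedding hU.fromSpec.isOpenEmbedding).isConstructible)
  refine (?_ : hU.fromSpec ⁻¹' fibCl f Z = fibClosure Γ(S, V) Γ(X, U) (hU.fromSpec ⁻¹' Z)) ▸ hc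
  ext q
  have hf : ∀ w, f (hU.fromSpec w) = hV.fromSpec (PrimeSpectrum.comap (algebraMap Γ(S, V) Γ(X, U)) w) := fun w => by
    rw [← Scheme.Hom.comp_apply, ← IsAffineOpen.SpecMap_appLE_fromSpec f hV hU hUV, Scheme.Hom.comp_apply]
    rfl
  have hpre : hU.fromSpec ⁻¹' (Z ∩ f ⁻¹' {f (hU.fromSpec q)}) = hU.fromSpec ⁻¹' Z ∩
      PrimeSpectrum.comap (algebraMap Γ(S, V) Γ(X, U)) ⁻¹' {PrimeSpectrum.comap (algebraMap Γ(S, V) Γ(X, U)) q} := by
    ext w
    simp only [Set.preimage_inter, Set.mem_inter_iff, Set.mem_preimage, Set.mem_singleton_iff, hf]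
    exact and_congr_right fun _ => hV.fromSpec.isOpenEmbedding.injective.eq_iff
  show hU.fromSpec q ∈ closure _ ↔ q ∈ closure _
  rw [← Set.mem_preimage, hU.fromSpec.isOpenEmbedding.isOpenMap.preimage_closure_eq_closure_preimage
    hU.fromSpec.continuous, hpre]
  rfl

theorem isLocallyConstructible_compl {T : Type*} [TopologicalSpace T] {s : Set T}
    (h : IsLocallyConstructible s) : IsLocallyConstructible sᶜ := fun x => by
  obtain ⟨U, hU, hUo, hc⟩ := h x
  exact ⟨U, hU, hUo, hc.compl⟩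

theorem isLocallyConstructible_diff {T : Type*} [TopologicalSpace T] {s t : Set T}
    (hs : IsLocallyConstructible s) (ht : IsLocallyConstructible t) : IsLocallyConstructible (s \ t) := by
  rw [Set.sdiff_eq]; exact hs.inter (isLocallyConstructible_compl ht)

/-- The set of points of the base over which a constructible set is empty. -/
theorem isLocallyConstructible_setOf_fibre_subset_empty {X S : Scheme.{u}} (f : X ⟶ S)
    [LocallyOfFinitePresentation f] [QuasiCompact f] {W : Set X} (hW : IsLocallyConstructible W) :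
    IsLocallyConstructible {s : S | ∀ x, f x = s → x ∉ W} := by
  convert isLocallyConstructible_compl (f.isLocallyConstructible_image hW) using 1
  ext s
  exact ⟨fun h ⟨x, hx, hxs⟩ => h x hxs hx, fun h x hxs hx => h ⟨x, hx, hxs⟩⟩

variable {X S : Scheme.{u}} (f : X ⟶ S) [LocallyOfFinitePresentation f] [QuasiCompact f]

theorem isClosed_fibre_iff (Z : Set X) (s : S) :
    IsClosed (Subtype.val ⁻¹' Z : Set ↥(f.base ⁻¹' {s})) ↔ ∀ x, f x = s → x ∉ fibCl f Z \ Z := by
  rw [isClosed_preimage_val, Set.inter_comm _ Z]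
  refine ⟨fun h x hx hxD => hxD.2 (h ⟨hx, (mem_fibCl_iff f Z hx).1 hxD.1⟩), fun h x hx => ?_⟩
  by_contra hxZ
  exact h x hx.1 ⟨(mem_fibCl_iff f Z hx.1).2 hx.2, hxZ⟩

theorem isLocallyConstructible_setOf_fibre_isClosed {Z : Set X} (hZ : IsLocallyConstructible Z) :
    IsLocallyConstructible {s : S | IsClosed (Subtype.val ⁻¹' Z : Set ↥(f.base ⁻¹' {s}))} := by
  simp only [isClosed_fibre_iff]
  exact isLocallyConstructible_setOf_fibre_subset_empty f
    (isLocallyConstructible_diff (isLocallyConstructible_fibCl f hZ) hZ)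

theorem isLocallyConstructible_setOf_fibre_isOpen {Z : Set X} (hZ : IsLocallyConstructible Z) :
    IsLocallyConstructible {s : S | IsOpen (Subtype.val ⁻¹' Z : Set ↥(f.base ⁻¹' {s}))} := by
  convert isLocallyConstructible_setOf_fibre_isClosed f (isLocallyConstructible_compl hZ) using 1
  ext s
  exact (isClosed_compl_iff (s := (Subtype.val ⁻¹' Z : Set ↥(f.base ⁻¹' {s})))).symm

theorem isLocallyConstructible_setOf_fibre_isLocallyClosed {Z : Set X} (hZ : IsLocallyConstructible Z) :
    IsLocallyConstructible {s : S | IsLocallyClosed (Subtype.val ⁻¹' Z : Set ↥(f.base ⁻¹' {s}))} := by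
  convert isLocallyConstructible_setOf_fibre_isClosed f
    (isLocallyConstructible_diff (isLocallyConstructible_fibCl f hZ) hZ) using 1
  ext s
  show IsLocallyClosed _ ↔ IsClosed _
  rw [isLocallyClosed_iff_isOpen_coborder, coborder, isOpen_compl_iff]
  refine iff_of_eq (congrArg IsClosed (Set.ext fun y => ?_))
  show (y ∈ closure _ ∧ ¬ y.1 ∈ Z) ↔ (y.1 ∈ fibCl f Z ∧ ¬ y.1 ∈ Z)
  rw [closure_subtype, Subtype.image_preimage_coe, Set.inter_comm, mem_fibCl_iff f Z y.2]

theorem isLocallyConstructible_setOf_fibre_dense {Z Z' : Set X} (hZ : IsLocallyConstructible Z)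
    (hZ' : IsLocallyConstructible Z') :
    IsLocallyConstructible {s : S | Z' ∩ f.base ⁻¹' {s} ⊆ closure (Z ∩ f.base ⁻¹' {s})} := by
  convert isLocallyConstructible_setOf_fibre_subset_empty f
    (isLocallyConstructible_diff hZ' (isLocallyConstructible_fibCl f hZ)) using 1
  ext s
  refine ⟨fun h x hx hxW => hxW.2 ((mem_fibCl_iff f Z hx).2 (h ⟨hxW.1, hx⟩)), fun h x hx => ?_⟩
  by_contra hxc
  exact h x hx.2 ⟨hx.1, fun hF => hxc ((mem_fibCl_iff f Z hx.2).1 hF)⟩

/-! ### Morphisms over a base -/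

section Relative

variable {Y : Scheme.{u}} (g : X ⟶ Y)

theorem lfp_qc_of_comp {X Y S : Scheme.{u}} (f : X ⟶ Y) (g : Y ⟶ S)
    [LocallyOfFinitePresentation g] [QuasiSeparated g]
    [LocallyOfFinitePresentation (f ≫ g)] [QuasiCompact (f ≫ g)] :
    LocallyOfFinitePresentation f ∧ QuasiCompact f :=
  ⟨Groth.L23.lfp_of_comp_lft f g inferInstance, QuasiCompact.of_comp f g⟩

end Relative

/-- The morphism induced on fibres. -/
noncomputable abbrev fibMap {X Y S : Scheme.{u}} (f : X ⟶ Y) (g : Y ⟶ S) (s : S) :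
    pullback (f ≫ g) (S.fromSpecResidueField s) ⟶ pullback g (S.fromSpecResidueField s) :=
  pullback.lift (pullback.fst (f ≫ g) (S.fromSpecResidueField s) ≫ f) (pullback.snd (f ≫ g) (S.fromSpecResidueField s))
    ((Category.assoc _ _ _).trans pullback.condition)

theorem fibMap_fst {X Y S : Scheme.{u}} (f : X ⟶ Y) (g : Y ⟶ S) (s : S)
    (x : ↥(pullback (f ≫ g) (S.fromSpecResidueField s))) :
    pullback.fst g (S.fromSpecResidueField s) (fibMap f g s x) =
      f (pullback.fst (f ≫ g) (S.fromSpecResidueField s) x) := by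
  rw [← Scheme.Hom.comp_apply, pullback.lift_fst, Scheme.Hom.comp_apply]

theorem range_fst_fromSpecResidueField {X S : Scheme.{u}} (f : X ⟶ S) (s : S) :
    Set.range (pullback.fst f (S.fromSpecResidueField s)) = f ⁻¹' {s} :=
  f.range_fiberι s

theorem range_fst_comp_fibMap {X Y S : Scheme.{u}} (f : X ⟶ Y) (g : Y ⟶ S) (s : S) :
    pullback.fst g (S.fromSpecResidueField s) '' Set.range (fibMap f g s) = Set.range f ∩ g ⁻¹' {s} := by
  ext y
  constructor
  · rintro ⟨_, ⟨x, rfl⟩, rfl⟩
    exact ⟨⟨_, (fibMap_fst f g s x).symm⟩, (range_fst_fromSpecResidueField g s).le ⟨_, rfl⟩⟩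
  · rintro ⟨⟨x, rfl⟩, hs⟩
    obtain ⟨x', rfl⟩ : x ∈ Set.range (pullback.fst (f ≫ g) (S.fromSpecResidueField s)) := by
      rw [range_fst_fromSpecResidueField]; exact hs
    exact ⟨_, ⟨x', rfl⟩, fibMap_fst f g s x'⟩

theorem surjective_fibMap_iff {X Y S : Scheme.{u}} (f : X ⟶ Y) (g : Y ⟶ S) (s : S) :
    Function.Surjective (fibMap f g s).base ↔ ∀ y, g y = s → y ∈ Set.range f := by
  have he : IsEmbedding (pullback.fst g (S.fromSpecResidueField s)) := (g.fiberι s).isEmbedding
  constructor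
  · intro h y hy
    obtain ⟨z, rfl⟩ : y ∈ Set.range (pullback.fst g (S.fromSpecResidueField s)) := by
      rw [range_fst_fromSpecResidueField]; exact hy
    exact ((range_fst_comp_fibMap f g s).le ⟨z, h z, rfl⟩).1
  · intro h z
    have hz : g (pullback.fst g (S.fromSpecResidueField s) z) = s :=
      (range_fst_fromSpecResidueField g s).le ⟨z, rfl⟩
    obtain ⟨z', hz', e⟩ := (range_fst_comp_fibMap f g s).ge ⟨h _ hz, hz⟩
    exact he.injective e ▸ hz'

theorem isDominant_fibMap_iff {X Y S : Scheme.{u}} (f : X ⟶ Y) (g : Y ⟶ S) (s : S) :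
    IsDominant (fibMap f g s) ↔ g.base ⁻¹' {s} ⊆ closure (Set.range f ∩ g.base ⁻¹' {s}) := by
  have he : IsEmbedding (pullback.fst g (S.fromSpecResidueField s)) := (g.fiberι s).isEmbedding
  rw [isDominant_iff, ← range_fst_comp_fibMap f g s]
  constructor
  · intro h y hy
    obtain ⟨z, rfl⟩ : y ∈ Set.range (pullback.fst g (S.fromSpecResidueField s)) := by
      rw [range_fst_fromSpecResidueField]; exact hy
    have := he.closure_eq_preimage_closure_image (Set.range (fibMap f g s))
    exact this.le (h z)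
  · intro h z
    rw [he.closure_eq_preimage_closure_image]
    exact h ((range_fst_fromSpecResidueField g s).le ⟨z, rfl⟩)

end Groth.L28.Fib
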