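import Groth.Agent.L02.Cons.Fibrewise

/-! Constructibility of fibrewise operations on constructible sets: reduction to the generic statement. -/

set_option autoImplicit false
set_option linter.style.haveILetI false
universe u

open TensorProduct Topology PrimeSpectrum

namespace Groth.L28.Fib

/-- An operation on sets of points of the spectrum of an algebra. -/
abbrev SetProp := ∀ (R A : Type u) [CommRing R] [CommRing A] [Algebra R A],
  Set (PrimeSpectrum A) → Set (PrimeSpectrum A)

/-- Compatibility with base change. -/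
def SetProp.BC (P : SetProp.{u}) : Prop :=
  ∀ (R A R' A' : Type u) [CommRing R] [CommRing A] [CommRing R'] [CommRing A'] [Algebra R A] [Algebra R R']
    [Algebra R' A'] [Algebra A A'] [Algebra R A'] [IsScalarTower R R' A'] [IsScalarTower R A A']
    [Algebra.IsPushout R R' A A'] (Z : Set (PrimeSpectrum A)),
    P R' A' (comap (algebraMap A A') ⁻¹' Z) = comap (algebraMap A A') ⁻¹' P R A Z

/-- Constructibility over a dense open of a Noetherian integral base. -/
def SetProp.Generic (P : SetProp.{u}) : Prop :=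
  ∀ (R A : Type u) [CommRing R] [IsDomain R] [IsNoetherianRing R] [CommRing A] [Algebra R A]
    [Algebra.FiniteType R A] (Z : Set (PrimeSpectrum A)), IsConstructible Z → ∃ f : R, f ≠ 0 ∧
      IsConstructible (P R A Z ∩ comap (algebraMap R A) ⁻¹' (basicOpen f : Set (PrimeSpectrum R)))

theorem isConstructible_of_noetherian {P : SetProp.{u}} (hbc : P.BC) (hgen : P.Generic)
    (R A : Type u) [CommRing R] [IsNoetherianRing R] [CommRing A] [Algebra R A]
    [Algebra.FinitePresentation R A] (Z : Set (PrimeSpectrum A)) (hZ : IsConstructible Z) :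
    IsConstructible (P R A Z) := by
  haveI : IsNoetherianRing A := Algebra.FiniteType.isNoetherianRing R A
  let π := comap (algebraMap R A)
  suffices ∀ C : Set (PrimeSpectrum R), IsClosed C → IsConstructible (P R A Z ∩ π ⁻¹' C) by
    simpa using this _ isClosed_univ
  intro C hC
  refine Groth.L06.Constr.closed_induction (P := fun C => IsConstructible (P R A Z ∩ π ⁻¹' C)) ?_ ?_ ?_ hC
  · simp
  · intro C hC hirr ih
    obtain ⟨p, hp⟩ := QuasiSober.sober hirr hC
    let B := R ⧸ p.asIdeal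
    haveI : IsDomain B := Ideal.Quotient.isDomain _
    letI : Algebra A (B ⊗[R] A) := Algebra.TensorProduct.rightAlgebra
    haveI : Algebra.IsPushout R B A (B ⊗[R] A) := inferInstance
    obtain ⟨f, hf0, hK⟩ := hgen B (B ⊗[R] A) _
      (L02.Cons.isConstructible_comap_preimage (algebraMap A (B ⊗[R] A)) hZ)
    obtain ⟨f, rfl⟩ := Ideal.Quotient.mk_surjective f
    rw [hbc R A B (B ⊗[R] A)] at hK
    set φ := algebraMap A (B ⊗[R] A)
    have hφ : Function.Surjective φ :=
      Algebra.TensorProduct.includeRight_surjective A Ideal.Quotient.mk_surjective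
    have himg : IsConstructible (comap φ '' (comap φ ⁻¹' P R A Z ∩
        comap (algebraMap B (B ⊗[R] A)) ⁻¹' (basicOpen (Ideal.Quotient.mk p.asIdeal f) : Set (PrimeSpectrum B)))) :=
      PrimeSpectrum.isConstructible_comap_image
        (RingHom.FinitePresentation.of_surjective _ hφ (IsNoetherian.noetherian _)) hK
    have hcomm : ∀ Q : PrimeSpectrum (B ⊗[R] A),
        π (comap φ Q) = comap (Ideal.Quotient.mk p.asIdeal) (comap (algebraMap B (B ⊗[R] A)) Q) := fun Q => by
      show comap (algebraMap R A) (comap φ Q) = _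
      rw [← comap_comp_apply, ← comap_comp_apply]
      exact congrArg (fun g => comap g Q)
        ((IsScalarTower.algebraMap_eq R A (B ⊗[R] A)).symm.trans (IsScalarTower.algebraMap_eq R B (B ⊗[R] A)))
    have heq : comap φ '' (comap φ ⁻¹' P R A Z ∩
        comap (algebraMap B (B ⊗[R] A)) ⁻¹' (basicOpen (Ideal.Quotient.mk p.asIdeal f) : Set (PrimeSpectrum B))) =
        P R A Z ∩ π ⁻¹' (C ∩ basicOpen f) := by
      ext q
      constructor
      · rintro ⟨Q, ⟨hQ, hQf⟩, rfl⟩
        refine ⟨hQ, ?_, ?_⟩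
        · rw [← hp.def, PrimeSpectrum.closure_singleton, hcomm]
          exact fun a ha => by
            simpa [Ideal.Quotient.eq_zero_iff_mem.2 ha] using
              Submodule.zero_mem (comap (algebraMap B (B ⊗[R] A)) Q).asIdeal
        · rw [hcomm]
          exact hQf
      · rintro ⟨hq, hqC, hqf⟩
        rw [← hp.def, PrimeSpectrum.closure_singleton] at hqC
        have hmem : q ∈ Set.range (comap φ) := by
          rw [range_comap_of_surjective _ _ hφ, mem_zeroLocus]
          have hk : RingHom.ker φ ≤ p.asIdeal.map (algebraMap R A) := fun x hx => by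
            let ψ : B ⊗[R] A →ₐ[R] A ⧸ p.asIdeal.map (algebraMap R A) :=
              Algebra.TensorProduct.lift (Ideal.quotientMapₐ _ (Algebra.ofId R A) Ideal.le_comap_map)
                (Ideal.Quotient.mkₐ R _) fun _ _ => Commute.all _ _
            have h2 : ψ ((1 : B) ⊗ₜ[R] x) = Ideal.Quotient.mk (p.asIdeal.map (algebraMap R A)) x := by simp [ψ]
            rw [← Ideal.Quotient.eq_zero_iff_mem, ← h2, show (1 : B) ⊗ₜ[R] x = φ x from rfl, hx, map_zero]
          exact fun x hx => (Ideal.map_le_iff_le_comap.2 hqC) (hk hx)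
        obtain ⟨Q, rfl⟩ := hmem
        refine ⟨Q, ⟨hq, ?_⟩, rfl⟩
        rw [hcomm] at hqf
        exact hqf
    have hsub : C \ basicOpen f ⊂ C := Groth.L06.Constr.sdiff_ssubset_of_nonempty ⟨p,
      fun h => hf0 (Ideal.Quotient.eq_zero_iff_mem.2 h), hp.mem⟩
    have hsplit : P R A Z ∩ π ⁻¹' C =
        (P R A Z ∩ π ⁻¹' (C ∩ basicOpen f)) ∪ (P R A Z ∩ π ⁻¹' (C \ basicOpen f)) := by
      rw [← Set.inter_union_distrib_left, ← Set.preimage_union, Set.inter_union_sdiff]
    show IsConstructible (P R A Z ∩ π ⁻¹' C)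
    rw [hsplit]
    exact (heq ▸ himg).union (ih _ (hC.sdiff (basicOpen f).2) hsub)
  · intro C D _ _ hC hD
    rw [Set.preimage_union, Set.inter_union_distrib_left]
    exact hC.union hD

theorem isConstructible_of_model {P : SetProp.{u}} (hbc : P.BC) (hgen : P.Generic)
    (R₀ A₀ R A : Type u) [CommRing R₀] [IsNoetherianRing R₀] [CommRing A₀] [Algebra R₀ A₀]
    [Algebra.FinitePresentation R₀ A₀] [CommRing R] [Algebra R₀ R] [CommRing A] [Algebra R A] [Algebra R₀ A]
    [IsScalarTower R₀ R A] (e : R ⊗[R₀] A₀ ≃ₐ[R] A) (Z₀ : Set (PrimeSpectrum A₀)) (hZ₀ : IsConstructible Z₀)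
    (Z : Set (PrimeSpectrum A))
    (hZ : Z = comap ((e : R ⊗[R₀] A₀ →+* A).comp
      (Algebra.TensorProduct.includeRight : A₀ →ₐ[R₀] R ⊗[R₀] A₀).toRingHom) ⁻¹' Z₀) :
    IsConstructible (P R A Z) := by
  letI : Algebra A₀ A := ((e : R ⊗[R₀] A₀ →+* A).comp
    (Algebra.TensorProduct.includeRight : A₀ →ₐ[R₀] R ⊗[R₀] A₀).toRingHom).toAlgebra
  haveI : IsScalarTower R₀ A₀ A := IsScalarTower.of_algebraMap_eq fun x => by
    show algebraMap R₀ A x = e (1 ⊗ₜ algebraMap R₀ A₀ x)
    rw [← Algebra.TensorProduct.algebraMap_apply', IsScalarTower.algebraMap_apply R₀ R (R ⊗[R₀] A₀),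
      e.commutes, ← IsScalarTower.algebraMap_apply]
  haveI : Algebra.IsPushout R₀ R A₀ A :=
    letI : Algebra A₀ (R ⊗[R₀] A₀) := Algebra.TensorProduct.rightAlgebra
    Algebra.IsPushout.of_equiv e rfl
  subst hZ
  show IsConstructible (P R A (comap (algebraMap A₀ A) ⁻¹' Z₀))
  rw [hbc R₀ A₀ R A]
  exact L02.Cons.isConstructible_comap_preimage _ (isConstructible_of_noetherian hbc hgen R₀ A₀ Z₀ hZ₀)

/-- Constructible data descend along a map whose range contains its coefficients. -/
theorem exists_data_map_eq {A₀ A : Type u} [CommRing A₀] [CommRing A] (φ : A₀ →+* A)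
    (d : ConstructibleSetData A) (h : ∀ C ∈ d, C.f ∈ Set.range φ ∧ ∀ i, C.g i ∈ Set.range φ) :
    ∃ d₀ : ConstructibleSetData A₀, d₀.map φ = d := by
  classical
  let ℓ : A → A₀ := Function.invFun φ
  refine ⟨d.image fun C => ⟨ℓ C.f, C.n, ℓ ∘ C.g⟩, ?_⟩
  rw [ConstructibleSetData.map, Finset.image_image]
  refine (Finset.image_congr fun C hC => ?_).trans Finset.image_id
  obtain ⟨f, n, g⟩ := C
  obtain ⟨h1, h2⟩ := h _ hC
  show BasicConstructibleSetData.map φ ⟨ℓ f, n, ℓ ∘ g⟩ = (⟨f, n, g⟩ : BasicConstructibleSetData A)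
  simp only [BasicConstructibleSetData.map, BasicConstructibleSetData.mk.injEq, heq_eq_eq]
  exact ⟨Function.invFun_eq h1, trivial, funext fun i => Function.invFun_eq (h2 i)⟩

/-- A fibrewise operation which is constructible generically preserves constructibility. -/
theorem isConstructible {P : SetProp.{u}} (hbc : P.BC) (hgen : P.Generic)
    (R A : Type u) [CommRing R] [CommRing A] [Algebra R A] [Algebra.FinitePresentation R A]
    (Z : Set (PrimeSpectrum A)) (hZ : IsConstructible Z) : IsConstructible (P R A Z) := by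
  classical
  obtain ⟨d, rfl⟩ := exists_constructibleSetData_iff.mpr hZ
  let Pr := Algebra.Presentation.ofFinitePresentation R A
  let E : Finset A := d.biUnion fun C => insert C.f (Finset.univ.image C.g)
  let s : Set R := Pr.coeffs ∪ ⋃ x ∈ E, ((Pr.σ x).coeffs : Set R)
  have hs : s.Finite := Pr.finite_coeffs.union (E.finite_toSet.biUnion fun x _ => Finset.finite_toSet _)
  let R₀ : Subalgebra ℤ R := Algebra.adjoin ℤ s
  haveI : Pr.HasCoeffs R₀ := ⟨fun x hx => ⟨⟨x, Algebra.subset_adjoin (Or.inl hx)⟩, rfl⟩⟩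
  haveI : Algebra.FiniteType ℤ R₀ :=
    (Subalgebra.fg_iff_finiteType _).mp ⟨hs.toFinset, by simp [R₀]⟩
  haveI : IsNoetherianRing R₀ := Algebra.FiniteType.isNoetherianRing ℤ R₀
  let e := Pr.tensorModelOfHasCoeffsEquiv R₀
  let φ : Pr.ModelOfHasCoeffs R₀ →+* A := (e : R ⊗[R₀] Pr.ModelOfHasCoeffs R₀ →+* A).comp
    (Algebra.TensorProduct.includeRight : _ →ₐ[R₀] R ⊗[R₀] Pr.ModelOfHasCoeffs R₀).toRingHom
  have hE : ∀ x ∈ E, x ∈ Set.range φ := fun x hx => by
    obtain ⟨p, hp⟩ := MvPolynomial.mem_range_map_iff_coeffs_subset (x := Pr.σ x) (f := algebraMap R₀ R).2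
      (fun r hr => ⟨⟨r, Algebra.subset_adjoin (Or.inr (Set.mem_biUnion hx hr))⟩, rfl⟩)
    refine ⟨Ideal.Quotient.mk _ p, ?_⟩
    show e ((1 : R) ⊗ₜ[R₀] Ideal.Quotient.mk _ p) = x
    rw [Algebra.Presentation.tensorModelOfHasCoeffsEquiv_tmul, map_one, one_mul,
      ← MvPolynomial.aeval_map_algebraMap R, hp, Algebra.Generators.aeval_val_σ]
  obtain ⟨d₀, hd₀⟩ := exists_data_map_eq φ d fun C hC =>
    ⟨hE _ (Finset.mem_biUnion.2 ⟨C, hC, Finset.mem_insert_self _ _⟩),
      fun i => hE _ (Finset.mem_biUnion.2 ⟨C, hC, Finset.mem_insert_of_mem (by simp)⟩)⟩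
  refine isConstructible_of_model hbc hgen R₀ _ R A e d₀.toSet d₀.isConstructible_toSet _ ?_
  rw [← hd₀, ConstructibleSetData.toSet_map]
  rfl

end Groth.L28.Fib
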