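import Groth.Agent.L28.Fib.Triple
import Groth.Agent.L28.Fib.Diag
import Groth.Agent.L20.GenericFreeness
import Groth.Agent.L05.Point.FibreMap
import Groth.Agent.L05.Point.UnramDescent
import Groth.Agent.L05.Point.BaseChange

/-! Properties of the morphism induced on the fibre through a point. -/

set_option autoImplicit false
set_option linter.style.haveILetI false
set_option backward.isDefEq.respectTransparency.types false
set_option backward.isDefEq.respectTransparency false
universe u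

open CategoryTheory CategoryTheory.Limits AlgebraicGeometry Topology
open Groth.L05.Point (Nhd)

namespace Groth.L28.Fib

/-- A property which is local, stable under base change and descends along flat base change. -/
structure IsGoodProp (P : MorphismProperty Scheme.{u}) : Prop where
  bc : P.IsStableUnderBaseChange
  loc : IsZariskiLocalAtSource P
  cancel : ∀ {X Y Z : Scheme.{u}} (f : X ⟶ Y) (j : Y ⟶ Z) [IsOpenImmersion j], P (f ≫ j) → P f
  comp : ∀ {X Y Z : Scheme.{u}} (f : X ⟶ Y) (j : Y ⟶ Z) [IsOpenImmersion j], P f → P (f ≫ j)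
  descend : ∀ {X Y X' Y' : Scheme.{u}} {q : X' ⟶ X} {φ' : X' ⟶ Y'} {φ : X ⟶ Y} {g : Y' ⟶ Y}
    (_ : IsPullback q φ' φ g) [Flat g] [LocallyOfFinitePresentation φ] {z : X'},
    Nhd P φ' z → Nhd P φ (q z)
  generic : ∀ {X Y S : Scheme.{u}} (f : X ⟶ Y) (g : Y ⟶ S) (h : X ⟶ S) (w : f ≫ g = h)
    [LocallyOfFinitePresentation g] [LocallyOfFinitePresentation h] (x : X)
    (_ : (h.stalkMap x).hom.Flat) (x' : h.fiber (h x)) (_ : h.fiberι (h x) x' = x),
    Nhd P f x ↔ Nhd P (CohIII.fiberMapOver f h g w (h x)) x'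

/-- The morphism induced on the fibre through `x` has the property `P` near `x`. -/
def FibAt (P : MorphismProperty Scheme.{u}) {X Y S : Scheme.{u}} (f : X ⟶ Y) (g : Y ⟶ S) (h : X ⟶ S)
    (w : f ≫ g = h) (x : X) : Prop :=
  Nhd P (CohIII.fiberMapOver f h g w (h x)) (h.asFiber x)

theorem fibAt_iff (P : MorphismProperty Scheme.{u}) {X Y S : Scheme.{u}} (f : X ⟶ Y) (g : Y ⟶ S) (h : X ⟶ S)
    (w : f ≫ g = h) {x : X} {s : S} (z : h.fiber s) (hz : h.fiberι s z = x) :
    FibAt P f g h w x ↔ Nhd P (CohIII.fiberMapOver f h g w s) z := by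
  have hs : h x = s := by
    rw [← hz]
    exact (h.range_fiberι s).le ⟨z, rfl⟩
  subst hs
  rw [(h.fiberι (h x)).isEmbedding.injective (hz.trans (h.fiberι_asFiber x).symm)]
  rfl

theorem flat_SpecMap_field {k k' : CommRingCat.{u}} (hk : IsField k) (φ : k ⟶ k') : Flat (Spec.map φ) := by
  letI := hk.toField
  rw [Flat.SpecMap_iff]
  algebraize [φ.hom]
  exact RingHom.flat_algebraMap_iff.mpr inferInstance

theorem lfp_fiberMapOver {X Y S : Scheme.{u}} (f : X ⟶ Y) (g : Y ⟶ S) (h : X ⟶ S) (w : f ≫ g = h) (s : S)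
    [LocallyOfFinitePresentation f] : LocallyOfFinitePresentation (CohIII.fiberMapOver f h g w s) :=
  MorphismProperty.of_isPullback (Groth.L05.Point.isPullback_fiberMapOver f g h w s) inferInstance

theorem fibAt_congr (P : MorphismProperty Scheme.{u}) {X Y S : Scheme.{u}} {f f' : X ⟶ Y} {g g' : Y ⟶ S}
    (ef : f = f') (eg : g = g') (h h' : X ⟶ S) (w : f ≫ g = h) (w' : f' ≫ g' = h') (x : X) :
    FibAt P f g h w x ↔ FibAt P f' g' h' w' x := by
  subst ef eg w w'
  rfl

variable {P : MorphismProperty Scheme.{u}} (hP : IsGoodProp P)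

include hP in
theorem fibAt_baseChange {X Y S X' Y' S' : Scheme.{u}} (f : X ⟶ Y) (g : Y ⟶ S) (h : X ⟶ S) (w : f ≫ g = h)
    [LocallyOfFinitePresentation f] (f' : X' ⟶ Y') (g' : Y' ⟶ S') (h' : X' ⟶ S') (w' : f' ≫ g' = h')
    (pX : X' ⟶ X) (pY : Y' ⟶ Y) (pS : S' ⟶ S) (sqY : IsPullback pY g' g pS) (sqX : IsPullback pX f' f pY)
    (x' : X') : FibAt P f' g' h' w' x' ↔ FibAt P f g h w (pX x') := by
  have hsq : IsPullback pX h' h pS := by
    rw [← w, ← w']
    exact sqX.paste_vert sqY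
  set s' := h' x'
  have sqB := isPullback_fiberToSpecResidueField_of_isPullback sqY s'
  have sqA := isPullback_fiberToSpecResidueField_of_isPullback hsq s'
  let mY : g'.fiber s' ⟶ g.fiber (pS s') := pullback.map g' (S'.fromSpecResidueField s') g
    (S.fromSpecResidueField (pS s')) pY (Spec.map (pS.residueFieldMap s')) pS sqY.w.symm (by simp)
  let mX : h'.fiber s' ⟶ h.fiber (pS s') := pullback.map h' (S'.fromSpecResidueField s') h
    (S.fromSpecResidueField (pS s')) pX (Spec.map (pS.residueFieldMap s')) pS hsq.w.symm (by simp)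
  have hmX : mX ≫ h.fiberι (pS s') = h'.fiberι s' ≫ pX := pullback.lift_fst _ _ _
  have hmY : mY ≫ g.fiberι (pS s') = g'.fiberι s' ≫ pY := pullback.lift_fst _ _ _
  have hcomm : mX ≫ CohIII.fiberMapOver f h g w (pS s') = CohIII.fiberMapOver f' h' g' w' s' ≫ mY := by
    apply pullback.hom_ext
    · simp [mX, mY, CohIII.fiberMapOver, sqX.w]
    · simp [mX, mY, CohIII.fiberMapOver]
  have sqm : IsPullback mX (CohIII.fiberMapOver f' h' g' w' s') (CohIII.fiberMapOver f h g w (pS s')) mY := by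
    refine IsPullback.of_right (h₁₂ := h.fiberι (pS s')) (h₂₂ := g.fiberι (pS s')) ?_ hcomm
      (Groth.L05.Point.isPullback_fiberMapOver f g h w (pS s'))
    rw [hmX, hmY]
    exact (Groth.L05.Point.isPullback_fiberMapOver f' g' h' w' s').paste_horiz sqX
  haveI : Flat mY := MorphismProperty.of_isPullback (P := @Flat) sqB.flip
    (flat_SpecMap_field (Field.toIsField (S.residueField (pS s'))) _)
  haveI := lfp_fiberMapOver f g h w (pS s')
  have hz : h.fiberι (pS s') (mX (h'.asFiber x')) = pX x' := by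
    rw [← Scheme.Hom.comp_apply, hmX, Scheme.Hom.comp_apply, h'.fiberι_asFiber]
  rw [fibAt_iff P f g h w _ hz]
  haveI := hP.bc
  exact ⟨fun H => hP.descend sqm H, fun H => Groth.L05.Point.nhd_of_isPullback sqm _ H⟩

include hP in
theorem fibAt_precomp {U X Y S : Scheme.{u}} (j : U ⟶ X) [IsOpenImmersion j] (f : X ⟶ Y) (g : Y ⟶ S)
    (h : X ⟶ S) (w : f ≫ g = h) (h' : U ⟶ S) (w' : (j ≫ f) ≫ g = h') (u : U) :
    FibAt P (j ≫ f) g h' w' u ↔ FibAt P f g h w (j u) := by
  haveI := hP.loc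
  set s := h' u
  have wj : j ≫ h = h' := by rw [← w', ← w, Category.assoc]
  let js := CohIII.fiberMapOver j h' h wj s
  haveI : IsOpenImmersion js :=
    MorphismProperty.of_isPullback (Groth.L05.Point.isPullback_fiberMapOver j h h' wj s) inferInstance
  have hjs : js ≫ h.fiberι s = h'.fiberι s ≫ j := pullback.lift_fst _ _ _
  have hz : h.fiberι s (js (h'.asFiber u)) = j u := by
    rw [← Scheme.Hom.comp_apply, hjs, Scheme.Hom.comp_apply, h'.fiberι_asFiber]
  have he : CohIII.fiberMapOver (j ≫ f) h' g w' s = js ≫ CohIII.fiberMapOver f h g w s := by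
    apply pullback.hom_ext <;> simp [js, CohIII.fiberMapOver]
  rw [fibAt_iff P f g h w _ hz]
  show Nhd P (CohIII.fiberMapOver (j ≫ f) h' g w' s) (h'.asFiber u) ↔ _
  rw [he]
  exact ⟨fun ⟨W, hW, hWP⟩ => Groth.L05.Point.nhd_of_openImm _ (W.ι ≫ js) ⟨_, hW⟩ (by rwa [Category.assoc]),
    fun H => Groth.L05.Point.nhd_openImm_comp _ js _ H⟩

include hP in
theorem fibAt_postcomp {X V Y S : Scheme.{u}} (f : X ⟶ V) (k : V ⟶ Y) [IsOpenImmersion k] (g : Y ⟶ S)
    (g' : V ⟶ S) (wk : k ≫ g = g') (h : X ⟶ S) (w : f ≫ g' = h) (w' : (f ≫ k) ≫ g = h) (x : X) :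
    FibAt P f g' h w x ↔ FibAt P (f ≫ k) g h w' x := by
  let ks := CohIII.fiberMapOver k g' g wk (h x)
  haveI : IsOpenImmersion ks :=
    MorphismProperty.of_isPullback (Groth.L05.Point.isPullback_fiberMapOver k g g' wk (h x)) inferInstance
  have he : CohIII.fiberMapOver (f ≫ k) h g w' (h x) = CohIII.fiberMapOver f h g' w (h x) ≫ ks := by
    apply pullback.hom_ext <;> simp [ks, CohIII.fiberMapOver]
  show Nhd P _ _ ↔ Nhd P (CohIII.fiberMapOver (f ≫ k) h g w' (h x)) _
  rw [he]
  exact ⟨fun ⟨W, hW, hWP⟩ => ⟨W, hW, by rw [← Category.assoc]; exact hP.comp _ _ hWP⟩,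
    fun ⟨W, hW, hWP⟩ => ⟨W, hW, hP.cancel _ ks (by rw [Category.assoc]; exact hWP)⟩⟩

/-- The ring form. -/
def fibSet (P : MorphismProperty Scheme.{u}) : TProp.{u} := fun R B A _ _ _ _ _ _ _ =>
  {q | FibAt P (Spec.map (CommRingCat.ofHom (algebraMap B A))) (Spec.map (CommRingCat.ofHom (algebraMap R B)))
    (Spec.map (CommRingCat.ofHom (algebraMap R A))) (by
      rw [← Spec.map_comp, ← CommRingCat.ofHom_comp, ← IsScalarTower.algebraMap_eq R B A]) q}

include hP in
theorem fibSet_bc : TProp.BC.{u} (fibSet P) := by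
  intro R B A R' B' A' _ _ _ _ _ _ _ _ _ _ _ _ _ _ _ _ _ _ _ _ _ _ _ _ _ _ _ _ _ _ _
  haveI : LocallyOfFinitePresentation (Spec.map (CommRingCat.ofHom (algebraMap B A))) :=
    HasRingHomProperty.Spec_iff.mpr (RingHom.finitePresentation_algebraMap.mpr inferInstance)
  ext q
  exact fibAt_baseChange hP _ _ _ _ _ _ _ _ (Spec.map (CommRingCat.ofHom (algebraMap A A'))) _ _
    (isPullback_SpecMap_of_isPushout _ _ _ _ (CommRingCat.isPushout_of_isPushout R R' B B')).flip
    (isPullback_SpecMap_of_isPushout _ _ _ _ (CommRingCat.isPushout_of_isPushout B B' A A')).flip q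

include hP in
theorem fibSet_generic : TProp.Generic.{u} (fibSet P) := by
  intro R B A _ _ _ _ _ _ _ _ _ _ _
  haveI : Algebra.FiniteType R A := Algebra.FiniteType.trans ‹_› ‹_›
  haveI : IsNoetherianRing A := Algebra.FiniteType.isNoetherianRing R A
  obtain ⟨a, ha, hfree, -⟩ := Groth.L20.GF.exists_free_and_nearlyFP (R := R) (S := A) A
  refine ⟨a, ha, ?_⟩
  let f := Spec.map (CommRingCat.ofHom (algebraMap B A))
  let g := Spec.map (CommRingCat.ofHom (algebraMap R B))
  let h := Spec.map (CommRingCat.ofHom (algebraMap R A))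
  haveI : LocallyOfFinitePresentation h := HasRingHomProperty.Spec_iff.mpr
    (RingHom.finitePresentation_algebraMap.mpr (Algebra.FinitePresentation.of_finiteType.1 inferInstance))
  haveI : LocallyOfFinitePresentation g := HasRingHomProperty.Spec_iff.mpr
    (RingHom.finitePresentation_algebraMap.mpr (Algebra.FinitePresentation.of_finiteType.1 inferInstance))
  let Ra := Localization.Away a
  let C := TensorProduct R Ra A
  letI : Algebra A C := Algebra.TensorProduct.rightAlgebra
  let hC : Spec (CommRingCat.of C) ⟶ Spec (CommRingCat.of Ra) := Spec.map (CommRingCat.ofHom (algebraMap Ra C))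
  let p : Spec (CommRingCat.of C) ⟶ Spec (CommRingCat.of A) := Spec.map (CommRingCat.ofHom (algebraMap A C))
  have sq : IsPullback p hC h (Spec.map (CommRingCat.ofHom (algebraMap R Ra))) :=
    (isPullback_SpecMap_of_isPushout _ _ _ _ (CommRingCat.isPushout_of_isPushout R Ra A C)).flip
  haveI : Flat hC := Flat.SpecMap_iff.mpr (RingHom.flat_algebraMap_iff.mpr inferInstance)
  haveI : IsOpenImmersion (Spec.map (CommRingCat.ofHom (algebraMap R Ra))) := IsOpenImmersion.of_isLocalization a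
  haveI : IsOpenImmersion p := MorphismProperty.of_isPullback sq.flip inferInstance
  have hflat : ∀ q, h q ∈ PrimeSpectrum.basicOpen a → (h.stalkMap q).hom.Flat := fun q hq => by
    have h1 : h q ∈ Set.range (Spec.map (CommRingCat.ofHom (algebraMap R Ra))) := by
      show _ ∈ Set.range (PrimeSpectrum.comap (algebraMap R Ra))
      rw [PrimeSpectrum.localization_away_comap_range Ra a]
      exact hq
    obtain ⟨z, hz⟩ := h1
    obtain ⟨b, rfl, -⟩ := Scheme.exists_preimage_of_isPullback sq q z hz.symm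
    have hF : Flat (p ≫ h) := by rw [sq.w]; infer_instance
    have := (Flat.iff_flat_stalkMap _).mp hF b
    rw [Scheme.Hom.stalkMap_comp, CommRingCat.hom_comp,
      RingHom.Flat.respectsIso.cancel_right_isIso] at this
    exact this
  have hπ : ∀ q, h q = PrimeSpectrum.comap (algebraMap R A) q := fun _ => rfl
  have heq : fibSet P R B A ∩ PrimeSpectrum.comap (algebraMap R A) ⁻¹'
      (PrimeSpectrum.basicOpen a : Set (PrimeSpectrum R)) = {q | Nhd P f q} ∩
      PrimeSpectrum.comap (algebraMap R A) ⁻¹' (PrimeSpectrum.basicOpen a : Set (PrimeSpectrum R)) := by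
    ext q
    refine and_congr_left fun hq => ?_
    exact (hP.generic f g h _ q (hflat q hq) (h.asFiber q) (h.fiberι_asFiber q)).symm
  rw [heq]
  refine IsConstructible.inter ?_ (Groth.L06.Constr.isConstructible_of_isOpen
    ((PrimeSpectrum.basicOpen a).2.preimage (PrimeSpectrum.continuous_comap _)))
  exact Groth.L06.Constr.isConstructible_of_isOpen (X := PrimeSpectrum A) (isOpen_setOf_nhd f P)

include hP in
/-- The locus where the morphism of fibres has the property is locally constructible. -/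
theorem isLocallyConstructible_fibAt {X Y S : Scheme.{u}} (f : X ⟶ Y) (g : Y ⟶ S) (h : X ⟶ S) (w : f ≫ g = h)
    [LocallyOfFinitePresentation f] [LocallyOfFinitePresentation g] :
    IsLocallyConstructible {x : X | FibAt P f g h w x} := by
  intro x
  obtain ⟨_, ⟨W, hW, rfl⟩, hxW, -⟩ :=
    S.isBasis_affineOpens.exists_subset_of_mem_open (Set.mem_univ (g (f x))) isOpen_univ
  obtain ⟨_, ⟨V, hV, rfl⟩, hxV, hVW⟩ :=
    Y.isBasis_affineOpens.exists_subset_of_mem_open (show f x ∈ g ⁻¹ᵁ W from hxW) (g ⁻¹ᵁ W).2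
  obtain ⟨_, ⟨U, hU, rfl⟩, hxU, hUV⟩ :=
    X.isBasis_affineOpens.exists_subset_of_mem_open (show x ∈ f ⁻¹ᵁ V from hxV) (f ⁻¹ᵁ V).2
  algebraize [(f.appLE V U hUV).hom, (g.appLE W V hVW).hom,
    (f.appLE V U hUV).hom.comp (g.appLE W V hVW).hom]
  haveI : Algebra.FinitePresentation Γ(S, W) Γ(Y, V) := g.finitePresentation_appLE hW hV hVW
  haveI : Algebra.FinitePresentation Γ(Y, V) Γ(X, U) := f.finitePresentation_appLE hV hU hUV
  have hc := tisConstructible (fibSet_bc hP) (fibSet_generic hP) Γ(S, W) Γ(Y, V) Γ(X, U)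
  have key : hU.fromSpec ⁻¹' {x : X | FibAt P f g h w x} = fibSet P Γ(S, W) Γ(Y, V) Γ(X, U) := by
    ext q
    show FibAt P f g h w (hU.fromSpec q) ↔ FibAt P (Spec.map (f.appLE V U hUV)) (Spec.map (g.appLE W V hVW))
      (Spec.map (CommRingCat.ofHom ((f.appLE V U hUV).hom.comp (g.appLE W V hVW).hom))) _ q
    have e1 := IsAffineOpen.SpecMap_appLE_fromSpec f hV hU hUV
    have e2 := IsAffineOpen.SpecMap_appLE_fromSpec g hW hV hVW
    have e3 : Spec.map (CommRingCat.ofHom ((f.appLE V U hUV).hom.comp (g.appLE W V hVW).hom)) =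
        Spec.map (f.appLE V U hUV) ≫ Spec.map (g.appLE W V hVW) := by
      rw [CommRingCat.ofHom_comp, CommRingCat.ofHom_hom, CommRingCat.ofHom_hom, Spec.map_comp]
    let f₀ := Spec.map (f.appLE V U hUV)
    let g₀ := Spec.map (g.appLE W V hVW)
    let h₀ := Spec.map (CommRingCat.ofHom ((f.appLE V U hUV).hom.comp (g.appLE W V hVW).hom))
    have w₀ : f₀ ≫ g₀ = h₀ := e3.symm
    haveI : LocallyOfFinitePresentation f₀ :=
      HasRingHomProperty.Spec_iff.mpr (f.finitePresentation_appLE hV hU hUV)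
    have step1 : FibAt P f g h w (hU.fromSpec q) ↔ FibAt P (hU.fromSpec ≫ f) g _ rfl q :=
      (fibAt_precomp hP hU.fromSpec f g h w _ rfl q).symm
    have step2 : FibAt P (f₀ ≫ hV.fromSpec) g _ rfl q ↔
        FibAt P f₀ (hV.fromSpec ≫ g) _ (Category.assoc _ _ _).symm q :=
      (fibAt_postcomp hP f₀ hV.fromSpec g _ rfl _ _ rfl q).symm
    have sqW : IsPullback (𝟙 _) g₀ (g₀ ≫ hW.fromSpec) hW.fromSpec := Groth.L05.Point.isPullback_of_mono _ _
    have step3 : FibAt P f₀ g₀ h₀ w₀ q ↔ FibAt P f₀ (g₀ ≫ hW.fromSpec) _ (Category.assoc _ _ _).symm q :=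
      fibAt_baseChange hP f₀ (g₀ ≫ hW.fromSpec) ((f₀ ≫ g₀) ≫ hW.fromSpec) (Category.assoc _ _ _).symm
        f₀ g₀ h₀ w₀ (𝟙 _) (𝟙 _) hW.fromSpec sqW (IsPullback.of_horiz_isIso ⟨by simp⟩) q
    exact step1.trans (((fibAt_congr P e1.symm rfl _ _ _ _ q).trans step2).trans
      ((fibAt_congr P rfl e2.symm _ _ _ _ q).trans step3.symm))
  refine ⟨U, U.2.mem_nhds hxU, U.2, ?_⟩
  rw [← key] at hc
  let e : Spec Γ(X, U) ≃ₜ (U : Set X) := (hU.fromSpec.isOpenEmbedding.isEmbedding.toHomeomorph).trans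
    (Homeomorph.setCongr hU.range_fromSpec)
  have := hc.preimage_of_isOpenEmbedding e.symm.isOpenEmbedding
  convert this using 1
  ext ⟨y, hy⟩
  have : hU.fromSpec (e.symm ⟨y, hy⟩) = y := congrArg Subtype.val (e.apply_symm_apply ⟨y, hy⟩)
  simp only [Set.mem_preimage]
  rw [this]

end Groth.L28.Fib
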