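import Groth.Agent.L28.Fib.Spread

/-! Fibre properties are local on the base. -/

set_option autoImplicit false
set_option linter.style.haveILetI false
set_option backward.isDefEq.respectTransparency.types false
universe u

open CategoryTheory CategoryTheory.Limits AlgebraicGeometry Topology
open Groth.L19.Limit (Pb pb_comp pb_iff_of_isPullback pb_snd_iff)

namespace Groth.L28.Fib

variable {P : MorphismProperty Scheme.{u}}

theorem fibMap_openImmersion_iff [P.IsStableUnderBaseChange] {X Y S S' : Scheme.{u}} (f : X ⟶ Y) (g : Y ⟶ S)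
    (j : S' ⟶ S) [IsOpenImmersion j] (v : S') :
    P (fibMap (pullback.snd f (pullback.fst g j)) (pullback.snd g j) v) ↔ P (fibMap f g (j v)) := by
  set g' := pullback.snd g j
  set qY := pullback.fst g j
  let a := pullback.fst g' (S'.fromSpecResidueField v)
  let ρ := Spec.map (j.residueFieldMap v)
  have hρ : ρ ≫ S.fromSpecResidueField (j v) = S'.fromSpecResidueField v ≫ j :=
    Scheme.Hom.SpecMap_residueFieldMap_fromSpecResidueField j v
  haveI : IsIso ρ := inferInstanceAs (IsIso (Spec.map (j.residueFieldMap v)))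
  let l : pullback g' (S'.fromSpecResidueField v) ⟶ pullback g (S.fromSpecResidueField (j v)) :=
    pullback.lift (a ≫ qY) (pullback.snd g' (S'.fromSpecResidueField v) ≫ ρ) (by
      rw [Category.assoc, Category.assoc, hρ, pullback.condition, ← Category.assoc, pullback.condition,
        Category.assoc])
  let y : pullback g (S.fromSpecResidueField (j v)) ⟶ pullback g j :=
    pullback.lift (pullback.fst g (S.fromSpecResidueField (j v)))
      (pullback.snd g (S.fromSpecResidueField (j v)) ≫ inv ρ ≫ S'.fromSpecResidueField v) (by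
      rw [Category.assoc, Category.assoc, ← hρ, IsIso.inv_hom_id_assoc, pullback.condition])
  let l' : pullback g (S.fromSpecResidueField (j v)) ⟶ pullback g' (S'.fromSpecResidueField v) :=
    pullback.lift y (pullback.snd g (S.fromSpecResidueField (j v)) ≫ inv ρ) (by
      rw [pullback.lift_snd, Category.assoc])
  have hl : l ≫ pullback.fst g (S.fromSpecResidueField (j v)) = a ≫ qY := pullback.lift_fst _ _ _
  have hl' : l' ≫ a ≫ qY = pullback.fst g (S.fromSpecResidueField (j v)) :=
    (Category.assoc _ _ _).symm.trans ((congrArg (· ≫ qY) (pullback.lift_fst _ _ _)).trans (pullback.lift_fst _ _ _))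
  refine (fibMap_iff_pb _ g' v).trans ((pb_snd_iff qY a).trans ?_)
  refine Iff.trans ⟨fun h => ?_, fun h => ?_⟩ (fibMap_iff_pb f g (j v)).symm
  · rw [← hl']; exact pb_comp _ h
  · rw [← hl]; exact pb_comp _ h

/-- It suffices to treat affine bases. -/
theorem isLocallyConstructible_of_affine [P.IsStableUnderBaseChange]
    (H : ∀ (R : Type u) [CommRing R] {X Y : Scheme.{u}} (f : X ⟶ Y) (g : Y ⟶ Spec (CommRingCat.of R))
      [LocallyOfFinitePresentation g] [QuasiCompact g] [QuasiSeparated g]
      [LocallyOfFinitePresentation (f ≫ g)] [QuasiCompact (f ≫ g)] [QuasiSeparated (f ≫ g)],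
      IsLocallyConstructible {s : Spec (CommRingCat.of R) | P (fibMap f g s)})
    {X Y S : Scheme.{u}} (f : X ⟶ Y) (g : Y ⟶ S)
    [LocallyOfFinitePresentation g] [QuasiCompact g] [QuasiSeparated g]
    [LocallyOfFinitePresentation (f ≫ g)] [QuasiCompact (f ≫ g)] [QuasiSeparated (f ≫ g)] :
    IsLocallyConstructible {s : S | P (fibMap f g s)} := by
  intro x
  obtain ⟨_, ⟨V, hV, rfl⟩, hxV, -⟩ :=
    S.isBasis_affineOpens.exists_subset_of_mem_open (Set.mem_univ x) isOpen_univ
  set j := hV.fromSpec
  set qY := pullback.fst g j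
  set g' := pullback.snd g j
  set f' := pullback.snd f qY
  have sq : IsPullback (pullback.fst f qY) (f' ≫ g') (f ≫ g) j :=
    (IsPullback.of_hasPullback f qY).paste_vert (IsPullback.of_hasPullback g j)
  haveI : LocallyOfFinitePresentation (f' ≫ g') := MorphismProperty.of_isPullback sq inferInstance
  haveI : QuasiCompact (f' ≫ g') := MorphismProperty.of_isPullback sq inferInstance
  haveI : QuasiSeparated (f' ≫ g') := MorphismProperty.of_isPullback sq inferInstance
  have hc := (H Γ(S, V) f' g').isConstructible
  refine ⟨V, V.2.mem_nhds hxV, V.2, ?_⟩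
  let e : Spec Γ(S, V) ≃ₜ (V : Set S) := (hV.fromSpec.isOpenEmbedding.isEmbedding.toHomeomorph).trans
    (Homeomorph.setCongr hV.range_fromSpec)
  have := hc.preimage_of_isOpenEmbedding e.symm.isOpenEmbedding
  convert this using 1
  ext ⟨y, hy⟩
  have : j (e.symm ⟨y, hy⟩) = y := congrArg Subtype.val (e.apply_symm_apply ⟨y, hy⟩)
  simp only [Set.mem_preimage, Set.mem_ofPred_eq]
  refine Iff.trans ?_ (fibMap_openImmersion_iff f g j (e.symm ⟨y, hy⟩)).symm
  rw [this]

end Groth.L28.Fib
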