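import Groth.Agent.L28.Fib.Diag
import Groth.Agent.L23.QFPoints

/-! Constructibility of the quasi-finite locus of fibre morphisms. -/

set_option autoImplicit false
set_option linter.style.haveILetI false
set_option backward.isDefEq.respectTransparency.types false
universe u

open CategoryTheory CategoryTheory.Limits AlgebraicGeometry Topology

namespace Groth.L28.Fib

/-- The ring form of the quasi-finite locus. -/
def qfSet : L02.Cons.PtProp.{u} := fun R A _ _ _ =>
  {q | (Spec.map (CommRingCat.ofHom (algebraMap R A))).QuasiFiniteAt q}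

theorem quasiFiniteAt_of_isPullback' {X Y X' Y' : Scheme.{u}} {p : X' ⟶ X} {h' : X' ⟶ Y'} {h : X ⟶ Y}
    {g : Y' ⟶ Y} (sq : IsPullback p h' h g) [LocallyOfFiniteType h] {u' : X'}
    (H : h.QuasiFiniteAt (p u')) : h'.QuasiFiniteAt u' := by
  haveI : LocallyOfFiniteType h' := MorphismProperty.of_isPullback sq ‹_›
  obtain ⟨W, hW, h₁, -⟩ := (Groth.L23.QFL.qfAt_iff_quasiFiniteAt h _).2 H
  refine (Groth.L23.QFL.qfAt_iff_quasiFiniteAt h' _).1 ⟨p ⁻¹ᵁ W, hW, ?_, inferInstance⟩
  exact MorphismProperty.of_isPullback ((isPullback_morphismRestrict p W).paste_vert sq) h₁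

theorem qfSet_bc : L02.Cons.PtProp.BC.{u} qfSet := by
  intro R A R' A' _ _ _ _ _ _ _ _ _ _ _ _ _
  haveI : LocallyOfFiniteType (Spec.map (CommRingCat.ofHom (algebraMap R A))) :=
    HasRingHomProperty.Spec_iff.mpr (RingHom.finiteType_algebraMap.mpr inferInstance)
  have sq := (isPullback_SpecMap_of_isPushout _ _ _ _ (CommRingCat.isPushout_of_isPushout R R' A A')).flip
  ext q
  exact ⟨fun h => Groth.L23.QFL.quasiFiniteAt_of_isPullback sq h, fun h => quasiFiniteAt_of_isPullback' sq h⟩

theorem qfSet_generic : L02.Cons.PtProp.Generic.{u} qfSet := by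
  intro R A _ _ _ _ _ _
  haveI : IsNoetherianRing A := Algebra.FiniteType.isNoetherianRing R A
  haveI : LocallyOfFiniteType (Spec.map (CommRingCat.ofHom (algebraMap R A))) :=
    HasRingHomProperty.Spec_iff.mpr (RingHom.finiteType_algebraMap.mpr inferInstance)
  refine ⟨1, one_ne_zero, ?_⟩
  rw [PrimeSpectrum.basicOpen_one, TopologicalSpace.Opens.coe_top, Set.preimage_univ, Set.inter_univ]
  exact Groth.L06.Constr.isConstructible_of_isOpen (X := PrimeSpectrum A)
    (Spec.map (CommRingCat.ofHom (algebraMap R A))).quasiFiniteLocus.2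

/-- The quasi-finite locus of a morphism locally of finite presentation is locally constructible. -/
theorem isLocallyConstructible_quasiFiniteAt {X Y : Scheme.{u}} (f : X ⟶ Y) [LocallyOfFinitePresentation f] :
    IsLocallyConstructible {x : X | f.QuasiFiniteAt x} := by
  refine L02.Cons.isLocallyConstructible_source f _ fun V hV U hU hUV => ?_
  algebraize [(f.appLE V U hUV).hom]
  haveI : Algebra.FinitePresentation Γ(Y, V) Γ(X, U) := f.finitePresentation_appLE hV hU hUV
  have h := L02.Cons.isConstructible qfSet_bc qfSet_generic Γ(Y, V) Γ(X, U)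
  refine (?_ : hU.fromSpec ⁻¹' {x : X | f.QuasiFiniteAt x} = qfSet Γ(Y, V) Γ(X, U)) ▸ h
  ext q
  show f.QuasiFiniteAt (hU.fromSpec q) ↔ (Spec.map (f.appLE V U hUV)).QuasiFiniteAt q
  rw [← Scheme.Hom.quasiFiniteAt_comp_iff_of_isOpenImmersion (f := hU.fromSpec),
    ← IsAffineOpen.SpecMap_appLE_fromSpec f hV hU hUV, Scheme.Hom.quasiFiniteAt_comp_iff]

theorem locallyQuasiFinite_fibMap_iff {X Y S : Scheme.{u}} (f : X ⟶ Y) (g : Y ⟶ S) (s : S)
    [LocallyOfFiniteType f] : LocallyQuasiFinite (fibMap f g s) ↔ ∀ x, (f ≫ g) x = s → f.QuasiFiniteAt x := by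
  haveI : LocallyOfFiniteType (fibMap f g s) := MorphismProperty.of_isPullback (isPullback_fibMap f g s) inferInstance
  constructor
  · intro h x hx
    obtain ⟨x', rfl⟩ : x ∈ Set.range (pullback.fst (f ≫ g) (S.fromSpecResidueField s)) := by
      rw [range_fst_fromSpecResidueField]; exact hx
    exact Groth.L23.QFL.quasiFiniteAt_of_isPullback (isPullback_fibMap f g s) ((fibMap f g s).quasiFiniteAt x')
  · intro h
    exact (Groth.L23.QFL.qfAt_lqfLft _ fun z => (Groth.L23.QFL.qfAt_iff_quasiFiniteAt _ z).2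
      (quasiFiniteAt_of_isPullback' (isPullback_fibMap f g s)
        (h _ ((range_fst_fromSpecResidueField (f ≫ g) s).le ⟨z, rfl⟩)))).1

theorem isLocallyConstructible_locallyQuasiFinite {X Y S : Scheme.{u}} (f : X ⟶ Y) (g : Y ⟶ S)
    [LocallyOfFinitePresentation g] [QuasiSeparated g]
    [LocallyOfFinitePresentation (f ≫ g)] [QuasiCompact (f ≫ g)] :
    IsLocallyConstructible {s : S | LocallyQuasiFinite (fibMap f g s)} := by
  obtain ⟨hf, hq⟩ := lfp_qc_of_comp f g
  simp only [locallyQuasiFinite_fibMap_iff]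
  have h := isLocallyConstructible_setOf_fibre_subset_empty (f ≫ g)
    (isLocallyConstructible_compl (isLocallyConstructible_quasiFiniteAt f))
  refine (congrArg IsLocallyConstructible (Set.ext fun s => ?_)).mp h
  exact ⟨fun H x hx => not_not.1 (H x hx), fun H x hx => not_not.2 (H x hx)⟩

end Groth.L28.Fib
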