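import Groth.Agent.L28.Fib.Univ
import Groth.Agent.L28.Fib.Local
import Groth.Agent.L28.Fib.QF
import Groth.Agent.L19.Limit.Proper
import Groth.Agent.L19.Limit.Immersion
import Mathlib.AlgebraicGeometry.ZariskisMainTheorem

/-! Constructibility of the proper, closed immersion, finite and immersion loci of fibre morphisms. -/

set_option autoImplicit false
set_option linter.style.haveILetI false
set_option backward.isDefEq.respectTransparency.types false
universe u

open CategoryTheory CategoryTheory.Limits AlgebraicGeometry Topology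
open Groth.L19.Limit (Pb pb_comp pb_iff_of_isPullback qcqsft qcqs_of_spaces descends_isImmersion)

namespace Groth.L28.Fib

theorem spreads_isProper : Spreads.{u} @IsProper := by
  intro I _ _ D c _ hc i _ _ X₀ Y₀ f₀ g₀ _ _ _ _ _ Y qY g hY hP
  haveI : IsProper (pullback.fst qY f₀) := hP
  obtain ⟨j, hj⟩ := Groth.L19.Limit.exists_isProper hc hY (IsPullback.of_hasPullback qY f₀).flip
  exact ⟨j.left, j.hom, (pb_iff_of_isPullback (Groth.L19.Limit.isPullback_stageHom f₀ g₀ j)).1 hj⟩

theorem spreads_isImmersion : Spreads.{u} @IsImmersion := by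
  intro I _ _ D c _ hc i _ _ X₀ Y₀ f₀ g₀ _ _ _ _ _ Y qY g hY hP
  exact descends_isImmersion.exists_pb hc f₀ g₀ ⟨qcqs_of_spaces f₀, inferInstance⟩ hY hP

section

variable {X Y S : Scheme.{u}} (f : X ⟶ Y) (g : Y ⟶ S) (s : S)

theorem universallyClosed_restrict_top_iff :
    UniversallyClosed (fibMap f g s ∣_ ⊤) ↔ UniversallyClosed (fibMap f g s) :=
  (IsZariskiLocalAtTarget.iff_of_iSup_eq_top (P := @UniversallyClosed) (f := fibMap f g s)
    (fun _ : Unit => (⊤ : (pullback g (S.fromSpecResidueField s)).Opens)) (by simp)).trans ⟨fun h => h (), fun h _ => h⟩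
    |>.symm

theorem isProper_fibMap_iff [LocallyOfFiniteType f] [QuasiCompact f] : IsProper (fibMap f g s) ↔
    IsSeparated (fibMap f g s) ∧ ∀ (n : ℕ) (W : Set ↥(pullback f (affProj (Y := Y) n))),
      IsOpen W → IsCompact W → ClosedImage f g Set.univ n Wᶜ s := by
  haveI : LocallyOfFiniteType (fibMap f g s) := MorphismProperty.of_isPullback (isPullback_fibMap f g s) inferInstance
  constructor
  · intro h
    haveI := (universallyClosed_restrict_top_iff f g s).2 inferInstance
    exact ⟨inferInstance, fun n W hW _ =>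
      closedImage_of_universallyClosed s ⊤ (by simp) n hW.isClosed_compl⟩
  · rintro ⟨h₁, h₂⟩
    haveI := (universallyClosed_restrict_top_iff f g s).1
      (universallyClosed_of_closedImage s (U := Set.univ) ⊤ (by simp) h₂)
    exact ⟨⟩

theorem preimage_coborder_range :
    (pullback.fst g (S.fromSpecResidueField s)) ⁻¹' (fibCl g (Set.range f) \ Set.range f)ᶜ =
      coborder (Set.range (fibMap f g s)) := by
  ext z
  have hz : g (pullback.fst g (S.fromSpecResidueField s) z) = s :=
    (range_fst_fromSpecResidueField g s).le ⟨z, rfl⟩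
  have he : IsEmbedding (pullback.fst g (S.fromSpecResidueField s)) := (g.fiberι s).isEmbedding
  have h1 : pullback.fst g (S.fromSpecResidueField s) z ∈ fibCl g (Set.range f) ↔
      z ∈ closure (Set.range (fibMap f g s)) := by
    rw [mem_fibCl_iff g _ hz, he.closure_eq_preimage_closure_image, Set.mem_preimage, range_fst_comp_fibMap]
  have h2 : pullback.fst g (S.fromSpecResidueField s) z ∈ Set.range f ↔ z ∈ Set.range (fibMap f g s) := by
    constructor
    · intro h
      obtain ⟨z', hz', e⟩ := (range_fst_comp_fibMap f g s).ge ⟨h, hz⟩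
      exact he.injective e ▸ hz'
    · exact fun h => ((range_fst_comp_fibMap f g s).le ⟨z, h, rfl⟩).1
  simp only [coborder, Set.mem_preimage, Set.mem_compl_iff, Set.mem_sdiff, h1, h2]

theorem isLocallyClosed_range_fibMap_iff : IsLocallyClosed (Set.range (fibMap f g s)) ↔
    IsLocallyClosed (Subtype.val ⁻¹' Set.range f : Set ↥(g.base ⁻¹' {s})) := by
  have he : IsEmbedding (pullback.fst g (S.fromSpecResidueField s)) := (g.fiberι s).isEmbedding
  let e : ↥(pullback g (S.fromSpecResidueField s)) ≃ₜ ↥(g.base ⁻¹' {s}) :=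
    he.toHomeomorph.trans (Homeomorph.setCongr (range_fst_fromSpecResidueField g s))
  have h : Set.range (fibMap f g s) = e ⁻¹' (Subtype.val ⁻¹' Set.range f) := by
    ext z
    constructor
    · exact fun h => ((range_fst_comp_fibMap f g s).le ⟨z, h, rfl⟩).1
    · intro h
      obtain ⟨z', hz', e'⟩ := (range_fst_comp_fibMap f g s).ge ⟨h, (range_fst_fromSpecResidueField g s).le ⟨z, rfl⟩⟩
      exact he.injective e' ▸ hz'
  rw [h]
  refine ⟨fun hl => ?_, fun hl => hl.preimage e.continuous⟩
  have := hl.preimage e.symm.continuous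
  rwa [← Set.preimage_comp, e.self_comp_symm, Set.preimage_id] at this

theorem isImmersion_fibMap_iff [LocallyOfFiniteType f] [QuasiCompact f] : IsImmersion (fibMap f g s) ↔
    Mono (fibMap f g s) ∧ IsLocallyClosed (Subtype.val ⁻¹' Set.range f : Set ↥(g.base ⁻¹' {s})) ∧
      ∀ (n : ℕ) (W : Set ↥(pullback f (affProj (Y := Y) n))), IsOpen W → IsCompact W →
        ClosedImage f g (fibCl g (Set.range f) \ Set.range f)ᶜ n Wᶜ s := by
  haveI : LocallyOfFiniteType (fibMap f g s) := MorphismProperty.of_isPullback (isPullback_fibMap f g s) inferInstance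
  rw [← isLocallyClosed_range_fibMap_iff]
  constructor
  · intro h
    have hlc := (fibMap f g s).isLocallyClosed_range
    let O : (pullback g (S.fromSpecResidueField s)).Opens := ⟨_, hlc.isOpen_coborder⟩
    have hO : (O : Set ↥(pullback g (S.fromSpecResidueField s))) =
        pullback.fst g (S.fromSpecResidueField s) ⁻¹' (fibCl g (Set.range f) \ Set.range f)ᶜ :=
      (preimage_coborder_range f g s).symm
    have hpre : fibMap f g s ⁻¹ᵁ O = ⊤ := eq_top_iff.2 fun x _ => subset_coborder ⟨x, rfl⟩
    haveI : IsImmersion (fibMap f g s ∣_ O) := IsZariskiLocalAtTarget.restrict (P := @IsImmersion) h O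
    haveI : IsClosedImmersion (fibMap f g s ∣_ O) := by
      refine .of_isPreimmersion _ ?_
      have : Set.range (fibMap f g s ∣_ O) = O.ι ⁻¹' Set.range (fibMap f g s) := by
        ext z
        refine ⟨?_, fun ⟨x, hx⟩ => ?_⟩
        · rintro ⟨x, rfl⟩
          exact ⟨_, (morphismRestrict_base_coe _ _ x).symm⟩
        · refine ⟨⟨x, ?_⟩, O.ι.isOpenEmbedding.injective ?_⟩
          · show fibMap f g s x ∈ O
            rw [hx]; exact z.2
          · refine Eq.trans ?_ hx
            rw [← Scheme.Hom.comp_apply, morphismRestrict_ι]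
            rfl
      rw [this]
      exact isClosed_preimage_val_coborder
    exact ⟨inferInstance, hlc, fun n W hW _ =>
      closedImage_of_universallyClosed s O hO n hW.isClosed_compl⟩
  · rintro ⟨hm, hlc, h⟩
    let O : (pullback g (S.fromSpecResidueField s)).Opens := ⟨_, hlc.isOpen_coborder⟩
    have hO : (O : Set ↥(pullback g (S.fromSpecResidueField s))) =
        pullback.fst g (S.fromSpecResidueField s) ⁻¹' (fibCl g (Set.range f) \ Set.range f)ᶜ :=
      (preimage_coborder_range f g s).symm
    haveI := universallyClosed_of_closedImage s O hO h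
    have hpre : fibMap f g s ⁻¹ᵁ O = ⊤ := eq_top_iff.2 fun x _ => subset_coborder ⟨x, rfl⟩
    haveI : Mono (fibMap f g s ∣_ O) :=
      haveI : Mono (fibMap f g s ∣_ O ≫ O.ι) := by rw [morphismRestrict_ι]; infer_instance
      mono_of_mono (fibMap f g s ∣_ O) O.ι
    haveI : LocallyOfFiniteType (fibMap f g s ∣_ O) :=
      IsZariskiLocalAtTarget.restrict (P := @LocallyOfFiniteType) inferInstance O
    haveI : IsProper (fibMap f g s ∣_ O) := ⟨⟩
    haveI : IsClosedImmersion (fibMap f g s ∣_ O) :=
      (IsClosedImmersion.iff_isProper_and_mono _).2 ⟨inferInstance, inferInstance⟩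
    haveI : IsIso (fibMap f g s ⁻¹ᵁ O).ι := by
      rw [hpre]; exact (Scheme.topIso _).isIso_hom
    have : fibMap f g s = inv (fibMap f g s ⁻¹ᵁ O).ι ≫ (fibMap f g s ∣_ O) ≫ O.ι := by
      rw [morphismRestrict_ι, IsIso.inv_hom_id_assoc]
    rw [this]
    infer_instance

end

section Affine

variable (R : Type u) [CommRing R] {X Y : Scheme.{u}} (f : X ⟶ Y) (g : Y ⟶ Spec (CommRingCat.of R))
  [LocallyOfFinitePresentation g] [QuasiCompact g] [QuasiSeparated g]
  [LocallyOfFinitePresentation (f ≫ g)] [QuasiCompact (f ≫ g)] [QuasiSeparated (f ≫ g)]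

include g in
theorem isLocallyConstructible_compl_qcOpen (n : ℕ) {W : Set ↥(pullback f (affProj (Y := Y) n))}
    (hW : IsOpen W) (hWc : IsCompact W) : IsLocallyConstructible Wᶜ := by
  haveI : QuasiSeparated f := QuasiSeparated.of_comp f g
  haveI : QuasiSeparatedSpace Y := quasiSeparatedSpace_of_quasiSeparated g
  haveI : QuasiSeparatedSpace ↥(pullback f (affProj (Y := Y) n)) :=
    quasiSeparatedSpace_of_quasiSeparated (pullback.snd f (affProj n) ≫ affProj n)
  exact (IsRetrocompact.isConstructible hW (hWc.isRetrocompact hW)).compl.isLocallyConstructible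

theorem isLocallyConstructible_isProper_affine :
    IsLocallyConstructible {s : Spec (CommRingCat.of R) | IsProper (fibMap f g s)} := by
  obtain ⟨hf, hq⟩ := lfp_qc_of_comp f g
  refine isLocallyConstructible_of_nhds (fun s hs => ?_) fun s hs => ?_
  · obtain ⟨C, hC, hsC, h⟩ := exists_constructible_nhd spreads_isProper f g s hs
    exact ⟨C, hC.isLocallyConstructible, hsC, h⟩
  · simp only [Set.mem_ofPred_eq, isProper_fibMap_iff] at hs
    by_cases h₁ : IsSeparated (fibMap f g s)
    · have h₂ : ¬ ∀ (n : ℕ) (W : Set ↥(pullback f (affProj (Y := Y) n))),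
          IsOpen W → IsCompact W → ClosedImage f g Set.univ n Wᶜ s := fun h => hs ⟨h₁, h⟩
      push Not at h₂
      obtain ⟨n, W, hWo, hWc, hW⟩ := h₂
      exact ⟨_, isLocallyConstructible_compl (isLocallyConstructible_closedImage f g
        IsLocallyConstructible.univ n (isLocallyConstructible_compl_qcOpen R f g n hWo hWc)), hW,
        fun t ht hP => ht (((isProper_fibMap_iff f g t).1 hP).2 n W hWo hWc)⟩
    · exact ⟨_, isLocallyConstructible_compl (isLocallyConstructible_isSeparated f g), h₁,
        fun t ht hP => ht ((isProper_fibMap_iff f g t).1 hP).1⟩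

theorem isLocallyConstructible_isImmersion_affine :
    IsLocallyConstructible {s : Spec (CommRingCat.of R) | IsImmersion (fibMap f g s)} := by
  obtain ⟨hf, hq⟩ := lfp_qc_of_comp f g
  have hr := isLocallyConstructible_range f
  refine isLocallyConstructible_of_nhds (fun s hs => ?_) fun s hs => ?_
  · obtain ⟨C, hC, hsC, h⟩ := exists_constructible_nhd spreads_isImmersion f g s hs
    exact ⟨C, hC.isLocallyConstructible, hsC, h⟩
  · simp only [Set.mem_ofPred_eq, isImmersion_fibMap_iff] at hs
    by_cases h₁ : Mono (fibMap f g s)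
    · by_cases h₂ : IsLocallyClosed (Subtype.val ⁻¹' Set.range f : Set ↥(g.base ⁻¹' {s}))
      · have h₃ : ¬ ∀ (n : ℕ) (W : Set ↥(pullback f (affProj (Y := Y) n))),
            IsOpen W → IsCompact W → ClosedImage f g (fibCl g (Set.range f) \ Set.range f)ᶜ n Wᶜ s :=
          fun h => hs ⟨h₁, h₂, h⟩
        push Not at h₃
        obtain ⟨n, W, hWo, hWc, hW⟩ := h₃
        exact ⟨_, isLocallyConstructible_compl (isLocallyConstructible_closedImage f g
          (isLocallyConstructible_compl (isLocallyConstructible_diff (isLocallyConstructible_fibCl g hr) hr)) n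
          (isLocallyConstructible_compl_qcOpen R f g n hWo hWc)), hW,
          fun t ht hP => ht (((isImmersion_fibMap_iff f g t).1 hP).2.2 n W hWo hWc)⟩
      · exact ⟨_, isLocallyConstructible_compl (isLocallyConstructible_setOf_fibre_isLocallyClosed g hr), h₂,
          fun t ht hP => ht ((isImmersion_fibMap_iff f g t).1 hP).2.1⟩
    · exact ⟨_, isLocallyConstructible_compl (isLocallyConstructible_mono f g), h₁,
        fun t ht hP => ht ((isImmersion_fibMap_iff f g t).1 hP).1⟩

end Affine

variable {X Y S : Scheme.{u}} (f : X ⟶ Y) (g : Y ⟶ S)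
  [LocallyOfFinitePresentation g] [QuasiCompact g] [QuasiSeparated g]
  [LocallyOfFinitePresentation (f ≫ g)] [QuasiCompact (f ≫ g)] [QuasiSeparated (f ≫ g)]

theorem isLocallyConstructible_isProper : IsLocallyConstructible {s : S | IsProper (fibMap f g s)} :=
  isLocallyConstructible_of_affine (P := @IsProper)
    (fun R _ _ _ f g => isLocallyConstructible_isProper_affine R f g) f g

theorem isLocallyConstructible_isImmersion : IsLocallyConstructible {s : S | IsImmersion (fibMap f g s)} :=
  isLocallyConstructible_of_affine (P := @IsImmersion)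
    (fun R _ _ _ f g => isLocallyConstructible_isImmersion_affine R f g) f g

theorem isLocallyConstructible_isClosedImmersion :
    IsLocallyConstructible {s : S | IsClosedImmersion (fibMap f g s)} := by
  simp only [IsClosedImmersion.iff_isProper_and_mono]
  exact IsLocallyConstructible.inter (isLocallyConstructible_isProper f g) (isLocallyConstructible_mono f g)

theorem isLocallyConstructible_isFinite : IsLocallyConstructible {s : S | IsFinite (fibMap f g s)} := by
  simp only [IsFinite.iff_isProper_and_locallyQuasiFinite]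
  exact IsLocallyConstructible.inter (isLocallyConstructible_isProper f g)
    (isLocallyConstructible_locallyQuasiFinite f g)

end Groth.L28.Fib
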