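import Groth.Agent.L19.Limit.Criterion
import Mathlib.RingTheory.LocalRing.ResidueField.Ideal
import Mathlib.RingTheory.Localization.Away.Basic

/-! The residue field at a prime as a filtered colimit of the rings `(R ⧸ (F))_a`. -/

set_option autoImplicit false
set_option linter.style.haveILetI false
universe u

open CategoryTheory CategoryTheory.Limits

noncomputable section

namespace Groth.L28.Fib.Residue

variable {R : Type u} [CommRing R] (p : PrimeSpectrum R)

/-- Indices: finitely many elements of the prime and an element outside. -/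
structure Idx where
  F : Finset R
  a : R
  hF : ∀ r ∈ F, r ∈ p.asIdeal
  ha : a ∉ p.asIdeal

variable {p}

/-- The ideal of an index. -/
abbrev Idx.I (x : Idx p) : Ideal R := Ideal.span (x.F : Set R)

/-- The ring of an index. -/
abbrev Idx.Ring (x : Idx p) : Type u := Localization.Away (Ideal.Quotient.mk x.I x.a)

instance : Preorder (Idx p) where
  le x y := x.F ⊆ y.F ∧ x.a ∣ y.a
  le_refl x := ⟨Finset.Subset.refl _, dvd_rfl⟩
  le_trans _ _ _ h h' := ⟨h.1.trans h'.1, h.2.trans h'.2⟩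

/-- The smallest index. -/
def Idx.bot : Idx p := ⟨∅, 1, by simp, fun h => p.2.ne_top ((Ideal.eq_top_iff_one _).2 h)⟩

instance : Nonempty (Idx p) := ⟨Idx.bot⟩

instance : IsDirectedOrder (Idx p) where
  directed x y := by
    classical
    exact ⟨⟨x.F ∪ y.F, x.a * y.a, fun r hr => (Finset.mem_union.1 hr).elim (x.hF r) (y.hF r),
      fun h => (p.2.mem_or_mem h).elim x.ha y.ha⟩,
      ⟨Finset.subset_union_left, dvd_mul_right _ _⟩, ⟨Finset.subset_union_right, dvd_mul_left _ _⟩⟩

/-- The structure map of a stage. -/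
abbrev ρ (x : Idx p) : R →+* x.Ring := algebraMap R x.Ring

theorem ρ_eq_zero (x : Idx p) {r : R} (hr : r ∈ x.F) : ρ x r = 0 := by
  rw [ρ, IsScalarTower.algebraMap_apply R (R ⧸ x.I) x.Ring, Ideal.Quotient.algebraMap_eq,
    Ideal.Quotient.eq_zero_iff_mem.2 (Ideal.subset_span hr), map_zero]

theorem isUnit_ρ (x : Idx p) : IsUnit (ρ x x.a) := by
  rw [ρ, IsScalarTower.algebraMap_apply R (R ⧸ x.I) x.Ring]
  exact IsLocalization.Away.algebraMap_isUnit (Ideal.Quotient.mk x.I x.a)

/-- A map out of a stage. -/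
def desc (x : Idx p) {T : Type u} [CommRing T] (ψ : R →+* T) (h₀ : ∀ r ∈ x.F, ψ r = 0) (h₁ : IsUnit (ψ x.a)) :
    x.Ring →+* T :=
  IsLocalization.Away.lift (Ideal.Quotient.mk x.I x.a)
    (g := Ideal.Quotient.lift x.I ψ fun r hr => (Ideal.span_le (I := RingHom.ker ψ)).2 h₀ hr)
    (show IsUnit (Ideal.Quotient.lift x.I ψ _ (Ideal.Quotient.mk x.I x.a)) from h₁)

@[simp]
theorem desc_ρ (x : Idx p) {T : Type u} [CommRing T] (ψ : R →+* T) (h₀ : ∀ r ∈ x.F, ψ r = 0)
    (h₁ : IsUnit (ψ x.a)) (r : R) : desc x ψ h₀ h₁ (ρ x r) = ψ r := by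
  rw [ρ, IsScalarTower.algebraMap_apply R (R ⧸ x.I) x.Ring, desc, IsLocalization.Away.lift_eq]
  rfl

theorem hom_ext (x : Idx p) {T : Type u} [CommRing T] {f g : x.Ring →+* T}
    (h : ∀ r, f (ρ x r) = g (ρ x r)) : f = g := by
  refine IsLocalization.ringHom_ext (Submonoid.powers (Ideal.Quotient.mk x.I x.a)) ?_
  refine Ideal.Quotient.ringHom_ext (RingHom.ext fun r => ?_)
  exact h r

/-- The transition map. -/
def trans {x y : Idx p} (h : x ≤ y) : x.Ring →+* y.Ring :=
  desc x (ρ y) (fun _ hr => ρ_eq_zero y (h.1 hr)) (isUnit_of_dvd_unit (map_dvd _ h.2) (isUnit_ρ y))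

variable (p) in
/-- The system of stages. -/
def diag : Idx p ⥤ CommRingCat.{u} where
  obj x := CommRingCat.of x.Ring
  map h := CommRingCat.ofHom (trans (leOfHom h))
  map_id x := CommRingCat.hom_ext (hom_ext x fun r => by simp [trans])
  map_comp h h' := CommRingCat.hom_ext (hom_ext _ fun r => by simp [trans])

/-- The map to the residue field. -/
def toResidue (x : Idx p) : x.Ring →+* p.asIdeal.ResidueField :=
  desc x (algebraMap R p.asIdeal.ResidueField)
    (fun r hr => Ideal.algebraMap_residueField_eq_zero.2 (x.hF r hr))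
    (isUnit_iff_ne_zero.2 (mt Ideal.algebraMap_residueField_eq_zero.1 x.ha))

variable (p) in
/-- The cocone on the residue field. -/
def cocone : Cocone (diag p) where
  pt := CommRingCat.of p.asIdeal.ResidueField
  ι :=
    { app := fun x => CommRingCat.ofHom (toResidue x)
      naturality := fun x y h => CommRingCat.hom_ext (hom_ext x fun r => by
        simp [diag, toResidue, trans]) }

theorem trans_ρ {x y : Idx p} (h : x ≤ y) (r : R) : trans h (ρ x r) = ρ y r := desc_ρ ..

theorem toResidue_ρ (x : Idx p) (r : R) : toResidue x (ρ x r) = algebraMap R p.asIdeal.ResidueField r := desc_ρ ..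

theorem isIso_ρ_bot : IsIso (CommRingCat.ofHom (ρ (Idx.bot : Idx p))) := by
  have h₀ : ∀ r ∈ (Idx.bot : Idx p).F, RingHom.id R r = 0 := fun r hr => (Finset.notMem_empty r hr).elim
  have h₁ : IsUnit (RingHom.id R (Idx.bot : Idx p).a) := isUnit_one
  refine ⟨CommRingCat.ofHom (desc _ (RingHom.id R) h₀ h₁), ?_, ?_⟩
  · exact CommRingCat.hom_ext (RingHom.ext fun r => desc_ρ _ _ h₀ h₁ r)
  · exact CommRingCat.hom_ext (hom_ext _ fun r => congrArg (ρ _) (desc_ρ _ _ h₀ h₁ r))

theorem exists_eq_of_toResidue_eq (j : Idx p) (z w : j.Ring) (hzw : toResidue j z = toResidue j w) :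
    ∃ (k : Idx p) (h : j ≤ k), trans h z = trans h w := by
  classical
  obtain ⟨⟨r, ⟨_, n, rfl⟩⟩, hr⟩ :=
    IsLocalization.surj (Submonoid.powers (Ideal.Quotient.mk j.I j.a)) (z - w)
  obtain ⟨r, rfl⟩ := Ideal.Quotient.mk_surjective r
  replace hr : (z - w) * ρ j (j.a ^ n) = ρ j r := hr
  have hmem : r ∈ p.asIdeal := by
    rw [← Ideal.algebraMap_residueField_eq_zero (I := p.asIdeal)]
    have := congrArg (toResidue j) hr
    rw [map_mul, map_sub, hzw, sub_self, zero_mul] at this
    simpa [toResidue] using this.symm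
  let k : Idx p := ⟨insert r j.F, j.a,
    fun t ht => (Finset.mem_insert.1 ht).elim (fun e => e ▸ hmem) (j.hF t), j.ha⟩
  have hjk : j ≤ k := ⟨Finset.subset_insert _ _, dvd_rfl⟩
  refine ⟨k, hjk, ?_⟩
  rw [← sub_eq_zero, ← map_sub]
  have h2 := congrArg (trans hjk) hr
  rw [map_mul, trans, desc_ρ, desc_ρ, ρ_eq_zero k (Finset.mem_insert_self _ _), map_pow] at h2
  exact ((isUnit_ρ k).pow n).mul_left_eq_zero.1 h2

theorem nonempty_isColimit_cocone : Nonempty (IsColimit (cocone p)) := by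
  classical
  refine Groth.L19.Limit.isColimit_of_elements _ (fun z => ?_) fun j z w hzw => ?_
  · obtain ⟨r, s, hs, rfl⟩ := IsFractionRing.div_surjective (R ⧸ p.asIdeal) (show p.asIdeal.ResidueField from z)
    obtain ⟨r, rfl⟩ := Ideal.Quotient.mk_surjective r
    obtain ⟨s, rfl⟩ := Ideal.Quotient.mk_surjective s
    have hs' : s ∉ p.asIdeal := fun h =>
      nonZeroDivisors.ne_zero hs (Ideal.Quotient.eq_zero_iff_mem.2 h)
    let x : Idx p := ⟨∅, s, by simp, hs'⟩
    refine ⟨x, (ρ x r * ↑(isUnit_ρ x).unit⁻¹ : x.Ring), ?_⟩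
    show toResidue x _ = _
    rw [eq_div_iff ((map_ne_zero_iff _ (IsFractionRing.injective (R ⧸ p.asIdeal) _)).2
      (nonZeroDivisors.ne_zero hs))]
    have e : ∀ t : R, algebraMap (R ⧸ p.asIdeal) p.asIdeal.ResidueField (Ideal.Quotient.mk _ t) =
        toResidue x (ρ x t) := fun t => by simp [toResidue, ← IsScalarTower.algebraMap_apply]
    rw [e, e, ← map_mul, mul_assoc, IsUnit.val_inv_mul (isUnit_ρ x), mul_one]
  · obtain ⟨k, hjk, hk⟩ := exists_eq_of_toResidue_eq j z w hzw
    exact ⟨k, homOfLE hjk, hk⟩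

end Groth.L28.Fib.Residue
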