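import Groth.Agent.L28.Fib.Residue
import Groth.Agent.L28.Fib.Main
import Groth.Agent.L19.Limit.Core
import Groth.Agent.L06.ProCons

/-! Spreading out a property of a fibre morphism to a constructible neighbourhood. -/

set_option autoImplicit false
set_option linter.style.haveILetI false
set_option backward.isDefEq.respectTransparency.types false
universe u

open CategoryTheory CategoryTheory.Limits AlgebraicGeometry Topology Opposite
open Groth.L19.Limit (Pb pb_comp pb_iff_of_isPullback)

namespace Groth.L28.Fib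

variable {P : MorphismProperty Scheme.{u}}

theorem fibMap_iff_pb [P.IsStableUnderBaseChange] {X Y S : Scheme.{u}} (f : X ⟶ Y) (g : Y ⟶ S) (s : S) :
    P (fibMap f g s) ↔ Pb P f (pullback.fst g (S.fromSpecResidueField s)) :=
  pb_iff_of_isPullback (isPullback_fibMap f g s)

theorem pb_of_map [P.IsStableUnderBaseChange] {X Y S T T' : Scheme.{u}} (f : X ⟶ Y) (g : Y ⟶ S)
    {m : T ⟶ S} {m' : T' ⟶ S} (e : T' ⟶ T) (he : e ≫ m = m') (h : Pb P f (pullback.fst g m)) :
    Pb P f (pullback.fst g m') := by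
  rw [← pullback.lift_fst (f := g) (g := m) (pullback.fst g m') (pullback.snd g m' ≫ e)
    (by rw [Category.assoc, he]; exact pullback.condition)]
  exact pb_comp _ h

/-- A property which spreads out from the limit of an affine system. -/
def Spreads (P : MorphismProperty Scheme.{u}) : Prop :=
  ∀ {I : Type u} [SmallCategory I] [IsCofiltered I] {D : I ⥤ Scheme.{u}} {c : Cone D}
    [∀ {i j} (f : i ⟶ j), IsAffineHom (D.map f)] (_ : IsLimit c) {i : I} [CompactSpace (D.obj i)]
    [QuasiSeparatedSpace (D.obj i)] {X₀ Y₀ : Scheme.{u}} (f₀ : X₀ ⟶ Y₀) (g₀ : Y₀ ⟶ D.obj i)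
    [CompactSpace X₀] [QuasiSeparatedSpace X₀] [CompactSpace Y₀] [QuasiSeparatedSpace Y₀]
    [LocallyOfFinitePresentation f₀] {Y : Scheme.{u}} {qY : Y ⟶ Y₀} {g : Y ⟶ c.pt}
    (_ : IsPullback qY g g₀ (c.π.app i)) (_ : Pb P f₀ qY),
    ∃ (j : I) (φ : j ⟶ i), Pb P f₀ (pullback.snd (D.map φ) g₀)

theorem exists_SpecMap_fromSpecResidueField {R : Type u} [CommRing R] (s : Spec (CommRingCat.of R)) :
    ∃ ψ : CommRingCat.of R ⟶ (Spec (CommRingCat.of R)).residueField s,
      Spec.map ψ = (Spec (CommRingCat.of R)).fromSpecResidueField s ∧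
      (∀ r, r ∈ s.asIdeal ↔ ψ.hom r = 0) := by
  let ψ := Spec.preimage ((Spec (CommRingCat.of R)).fromSpecResidueField s)
  have hψ : Spec.map ψ = (Spec (CommRingCat.of R)).fromSpecResidueField s := Spec.map_preimage _
  refine ⟨ψ, hψ, fun r => ?_⟩
  have e : Spec.map ψ (IsLocalRing.closedPoint _) = s := by
    rw [hψ]; exact Scheme.fromSpecResidueField_apply _ _
  conv_lhs => rw [← e]
  show ψ.hom r ∈ IsLocalRing.maximalIdeal ((Spec (CommRingCat.of R)).residueField s) ↔ _
  rw [(IsLocalRing.isField_iff_maximalIdeal_eq.1 (Field.toIsField _)), Ideal.mem_bot]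

/-- A property of a fibre morphism holds on a constructible neighbourhood. -/
theorem exists_constructible_nhd [P.IsStableUnderBaseChange] (hP : Spreads P) {R : Type u} [CommRing R]
    {X Y : Scheme.{u}} (f : X ⟶ Y) (g : Y ⟶ Spec (CommRingCat.of R))
    [LocallyOfFinitePresentation f] [QuasiCompact g] [QuasiSeparated g]
    [QuasiCompact (f ≫ g)] [QuasiSeparated (f ≫ g)] (s : Spec (CommRingCat.of R))
    (hs : P (fibMap f g s)) :
    ∃ C : Set (Spec (CommRingCat.of R)), IsConstructible C ∧ s ∈ C ∧ ∀ s' ∈ C, P (fibMap f g s') := by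
  classical
  haveI : CompactSpace Y := QuasiCompact.compactSpace_of_compactSpace g
  haveI : QuasiSeparatedSpace Y := quasiSeparatedSpace_of_quasiSeparated g
  haveI : CompactSpace X := QuasiCompact.compactSpace_of_compactSpace (f ≫ g)
  haveI : QuasiSeparatedSpace X := quasiSeparatedSpace_of_quasiSeparated (f ≫ g)
  let q : PrimeSpectrum R := s
  obtain ⟨hcc⟩ := Residue.nonempty_isColimit_cocone (p := q)
  haveI : IsFiltered (Residue.Idx q) := inferInstance
  haveI : PreservesLimitsOfSize.{u, u} Scheme.Spec.{u} := ΓSpec.adjunction.rightAdjoint_preservesLimits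
  let D : (Residue.Idx q)ᵒᵖ ⥤ Scheme.{u} := (Residue.diag q).op ⋙ Scheme.Spec
  let c : Cone D := Scheme.Spec.mapCone (Residue.cocone q).op
  have hc : IsLimit c := isLimitOfPreserves Scheme.Spec hcc.op
  haveI : ∀ j, IsAffine (D.obj j) := fun j => inferInstanceAs (IsAffine (Spec _))
  haveI : ∀ {i j} (m : i ⟶ j), IsAffineHom (D.map m) := fun m => inferInstance
  let t : ∀ j, D.obj j ⟶ Spec (CommRingCat.of R) := fun j => Spec.map (CommRingCat.ofHom (Residue.ρ j.unop))
  have ht : ∀ {i j} (m : i ⟶ j), D.map m ≫ t j = t i := fun {i j} m => by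
    show Spec.map _ ≫ Spec.map _ = Spec.map _
    rw [← Spec.map_comp]
    congr 1
    exact CommRingCat.hom_ext (RingHom.ext fun r => Residue.trans_ρ (leOfHom m.unop) r)
  let i₀ : (Residue.Idx q)ᵒᵖ := op Residue.Idx.bot
  haveI : IsIso (t i₀) := by
    have : IsIso (CommRingCat.ofHom (Residue.ρ (Residue.Idx.bot : Residue.Idx q))) := Residue.isIso_ρ_bot
    show IsIso (Spec.map (CommRingCat.ofHom (Residue.ρ (Residue.Idx.bot : Residue.Idx q))))
    infer_instance
  haveI : CompactSpace (D.obj i₀) := inferInstance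
  let g₀ : Y ⟶ D.obj i₀ := g ≫ inv (t i₀)
  obtain ⟨ψ, hψ, hker⟩ := exists_SpecMap_fromSpecResidueField s
  let m : Spec (CommRingCat.of q.asIdeal.ResidueField) ⟶ Spec (CommRingCat.of R) :=
    Spec.map (CommRingCat.ofHom (algebraMap R q.asIdeal.ResidueField))
  have hm' : c.π.app i₀ ≫ t i₀ = m := by
    show Spec.map _ ≫ Spec.map _ = Spec.map _
    rw [← Spec.map_comp]
    congr 1
    exact CommRingCat.hom_ext (RingHom.ext fun r => Residue.toResidue_ρ _ r)
  have hPm : Pb P f (pullback.fst g m) := by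
    have e := Scheme.descResidueField_stalkClosedPointTo_fromSpecResidueField q.asIdeal.ResidueField
      (Spec (CommRingCat.of R)) m
    have hx : m (IsLocalRing.closedPoint q.asIdeal.ResidueField) = s := by
      refine PrimeSpectrum.ext (Ideal.ext fun r => ?_)
      show algebraMap R q.asIdeal.ResidueField r ∈ IsLocalRing.maximalIdeal q.asIdeal.ResidueField ↔ _
      rw [(IsLocalRing.isField_iff_maximalIdeal_eq.1 (Field.toIsField _)), Ideal.mem_bot]
      exact Ideal.algebraMap_residueField_eq_zero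
    refine pb_of_map f g _ e ?_
    rw [← fibMap_iff_pb, hx]
    exact hs
  have hY := IsPullback.of_hasPullback g₀ (c.π.app i₀)
  have hP₀ : Pb P f (pullback.fst g₀ (c.π.app i₀)) := by
    rw [← pullback.lift_fst (f := g) (g := m) (pullback.fst g₀ (c.π.app i₀)) (pullback.snd g₀ (c.π.app i₀))
      ((congrArg (_ ≫ ·) (show g₀ ≫ t i₀ = g by simp [g₀]).symm).trans ((Category.assoc _ _ _).symm.trans
        ((congrArg (· ≫ t i₀) pullback.condition).trans ((Category.assoc _ _ _).trans (congrArg (_ ≫ ·) hm')))))]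
    exact pb_comp _ hPm
  obtain ⟨j, φ, hj⟩ := hP hc f g₀ hY hP₀
  let x : Residue.Idx q := j.unop
  refine ⟨PrimeSpectrum.zeroLocus (x.F : Set R) ∩ (PrimeSpectrum.basicOpen x.a : Set (PrimeSpectrum R)),
    ?_, ⟨fun r hr => x.hF r hr, x.ha⟩, fun s' hs' => ?_⟩
  · refine IsConstructible.inter (X := PrimeSpectrum R) ?_ PrimeSpectrum.isConstructible_basicOpen
    rw [show PrimeSpectrum.zeroLocus (x.F : Set R) =
      ⋂₀ ((fun r => (PrimeSpectrum.basicOpen r : Set (PrimeSpectrum R))ᶜ) '' (x.F : Set R)) by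
        ext z
        simp [Set.subset_def, PrimeSpectrum.basicOpen_eq_zeroLocus_compl]]
    refine IsConstructible.sInter (X := PrimeSpectrum R) (x.F.finite_toSet.image _) ?_
    rintro _ ⟨r, -, rfl⟩
    exact PrimeSpectrum.isConstructible_basicOpen.compl
  · obtain ⟨ψ', hψ', hker'⟩ := exists_SpecMap_fromSpecResidueField s'
    have h₀ : ∀ r ∈ x.F, ψ'.hom r = 0 := fun r hr => (hker' r).1 (hs'.1 hr)
    have h₁ : IsUnit (ψ'.hom x.a) := isUnit_iff_ne_zero.2 fun h => hs'.2 ((hker' _).2 h)
    let e : Spec ((Spec (CommRingCat.of R)).residueField s') ⟶ D.obj j :=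
      Spec.map (CommRingCat.ofHom (Residue.desc x ψ'.hom h₀ h₁))
    have he : e ≫ t j = (Spec (CommRingCat.of R)).fromSpecResidueField s' := by
      rw [← hψ']
      show Spec.map _ ≫ Spec.map _ = Spec.map _
      rw [← Spec.map_comp]
      congr 1
      exact CommRingCat.hom_ext (RingHom.ext fun r => Residue.desc_ρ _ _ h₀ h₁ r)
    refine (fibMap_iff_pb f g s').2 ?_
    rw [← pullback.lift_snd (f := D.map φ) (g := g₀)
      (pullback.snd g ((Spec (CommRingCat.of R)).fromSpecResidueField s') ≫ e)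
      (pullback.fst g ((Spec (CommRingCat.of R)).fromSpecResidueField s'))
      (by
        rw [← cancel_mono (t i₀), Category.assoc, Category.assoc, ht φ, he, Category.assoc, Category.assoc,
          IsIso.inv_hom_id, Category.comp_id]
        exact pullback.condition.symm)]
    exact pb_comp _ hj

/-- A set with constructible neighbourhoods on both sides is constructible. -/
theorem isLocallyConstructible_of_nhds {S : Scheme.{u}} {E : Set S}
    (h1 : ∀ s ∈ E, ∃ C, IsLocallyConstructible C ∧ s ∈ C ∧ C ⊆ E)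
    (h2 : ∀ s ∉ E, ∃ C, IsLocallyConstructible C ∧ s ∈ C ∧ C ⊆ Eᶜ) : IsLocallyConstructible E := by
  have key : ∀ F : Set S, (∀ s ∈ F, ∃ C, IsLocallyConstructible C ∧ s ∈ C ∧ C ⊆ F) →
      Groth.L19.Limit.CC Fᶜ := fun F h U hU => by
    haveI := Groth.L19.Limit.spectralSpace_opens hU
    rw [Set.preimage_compl]
    refine @IsOpen.isClosed_compl _ (constructibleTopology (U : Scheme.{u})) _ ?_
    refine (@isOpen_iff_forall_mem_open _ (constructibleTopology (U : Scheme.{u})) _).2 fun z hz => ?_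
    obtain ⟨C, hC, hzC, hCF⟩ := h _ hz
    exact ⟨U.ι ⁻¹' C, Set.preimage_mono hCF,
      (Groth.L19.Limit.isClopen_cons_of_isLocallyConstructible hU hC).2, hzC⟩
  exact Groth.L06.ProCons.isLocallyConstructible_iff_cc.2 ⟨by simpa using key Eᶜ h2, key E h1⟩

end Groth.L28.Fib
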