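import Groth.Agent.L02.Cons.Fibrewise

/-! Constructibility of loci defined fibrewise for a tower of algebras: reduction to the generic statement. -/

set_option autoImplicit false
set_option linter.style.haveILetI false
universe u

open TensorProduct Topology PrimeSpectrum

namespace Groth.L28.Fib

/-- A property of points of the spectrum of the top of a tower of algebras. -/
abbrev TProp := ∀ (R B A : Type u) [CommRing R] [CommRing B] [CommRing A] [Algebra R B] [Algebra B A]
  [Algebra R A] [IsScalarTower R B A], Set (PrimeSpectrum A)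

/-- Invariance under base change. -/
def TProp.BC (P : TProp.{u}) : Prop :=
  ∀ (R B A R' B' A' : Type u) [CommRing R] [CommRing B] [CommRing A] [CommRing R'] [CommRing B'] [CommRing A']
    [Algebra R B] [Algebra B A] [Algebra R A] [IsScalarTower R B A]
    [Algebra R' B'] [Algebra B' A'] [Algebra R' A'] [IsScalarTower R' B' A']
    [Algebra R R'] [Algebra B B'] [Algebra A A'] [Algebra R B'] [Algebra B A'] [Algebra R A']
    [IsScalarTower R R' B'] [IsScalarTower R B B'] [IsScalarTower B B' A'] [IsScalarTower B A A']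
    [IsScalarTower R R' A'] [IsScalarTower R A A'] [IsScalarTower R B A']
    [Algebra.FinitePresentation R B] [Algebra.FinitePresentation B A]
    [Algebra.IsPushout R R' B B'] [Algebra.IsPushout B B' A A'],
    P R' B' A' = comap (algebraMap A A') ⁻¹' P R B A

/-- Constructibility over a dense open of a Noetherian integral base. -/
def TProp.Generic (P : TProp.{u}) : Prop :=
  ∀ (R B A : Type u) [CommRing R] [IsDomain R] [IsNoetherianRing R] [CommRing B] [CommRing A]
    [Algebra R B] [Algebra B A] [Algebra R A] [IsScalarTower R B A]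
    [Algebra.FiniteType R B] [Algebra.FiniteType B A], ∃ f : R, f ≠ 0 ∧
      IsConstructible (P R B A ∩ comap (algebraMap R A) ⁻¹' (basicOpen f : Set (PrimeSpectrum R)))

/-- Base change of a finite presentation to a tower. -/
theorem finitePresentation_trans (R B A : Type u) [CommRing R] [CommRing B] [CommRing A]
    [Algebra R B] [Algebra B A] [Algebra R A] [IsScalarTower R B A]
    [Algebra.FinitePresentation R B] [Algebra.FinitePresentation B A] : Algebra.FinitePresentation R A :=
  Algebra.FinitePresentation.trans R B A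

theorem tisConstructible_of_noetherian {P : TProp.{u}} (hbc : P.BC) (hgen : P.Generic)
    (R B A : Type u) [CommRing R] [IsNoetherianRing R] [CommRing B] [CommRing A]
    [Algebra R B] [Algebra B A] [Algebra R A] [IsScalarTower R B A]
    [Algebra.FinitePresentation R B] [Algebra.FinitePresentation B A] :
    IsConstructible (P R B A) := by
  haveI := finitePresentation_trans R B A
  haveI : IsNoetherianRing A := Algebra.FiniteType.isNoetherianRing R A
  let π := comap (algebraMap R A)
  suffices ∀ C : Set (PrimeSpectrum R), IsClosed C → IsConstructible (P R B A ∩ π ⁻¹' C) by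
    simpa using this _ isClosed_univ
  intro C hC
  refine Groth.L06.Constr.closed_induction (P := fun C => IsConstructible (P R B A ∩ π ⁻¹' C)) ?_ ?_ ?_ hC
  · simp
  · intro C hC hirr ih
    obtain ⟨p, hp⟩ := QuasiSober.sober hirr hC
    let R' := R ⧸ p.asIdeal
    haveI : IsDomain R' := Ideal.Quotient.isDomain _
    let B' := R' ⊗[R] B
    letI : Algebra B B' := Algebra.TensorProduct.rightAlgebra
    haveI : Algebra.IsPushout R R' B B' := inferInstance
    let A' := B' ⊗[B] A
    letI : Algebra A A' := Algebra.TensorProduct.rightAlgebra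
    haveI : Algebra.IsPushout B B' A A' := inferInstance
    haveI : IsScalarTower R B B' := inferInstance
    haveI : IsScalarTower R' B' A' := IsScalarTower.of_algebraMap_eq (R := R') (S := B') (A := A') fun _ => rfl
    haveI : IsScalarTower R B' A' := IsScalarTower.of_algebraMap_eq (R := R) (S := B') (A := A') fun _ => rfl
    haveI : IsScalarTower R R' A' := IsScalarTower.of_algebraMap_eq (R := R) (S := R') (A := A') fun r => by
      rw [IsScalarTower.algebraMap_apply R' B' A', ← IsScalarTower.algebraMap_apply R R' B',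
        ← IsScalarTower.algebraMap_apply R B' A']
    haveI : IsScalarTower R B A' := IsScalarTower.of_algebraMap_eq (R := R) (S := B) (A := A') fun r => by
      rw [IsScalarTower.algebraMap_apply B B' A', ← IsScalarTower.algebraMap_apply R B B',
        ← IsScalarTower.algebraMap_apply R B' A']
    haveI : IsScalarTower R A A' := IsScalarTower.of_algebraMap_eq (R := R) (S := A) (A := A') fun r => by
      rw [IsScalarTower.algebraMap_apply R B A, ← IsScalarTower.algebraMap_apply B A A',
        ← IsScalarTower.algebraMap_apply R B A']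
    obtain ⟨f, hf0, hK⟩ := hgen R' B' A'
    obtain ⟨f, rfl⟩ := Ideal.Quotient.mk_surjective f
    rw [hbc R B A R' B' A'] at hK
    let φ : A →+* A' := (Algebra.TensorProduct.includeRight : A →ₐ[B] A').toRingHom
    have hφ : Function.Surjective φ :=
      Algebra.TensorProduct.includeRight_surjective A
        (show Function.Surjective (algebraMap B B') from
          Algebra.TensorProduct.includeRight_surjective B Ideal.Quotient.mk_surjective)
    have himg : IsConstructible (comap φ '' (comap φ ⁻¹' P R B A ∩
        comap (algebraMap R' A') ⁻¹' (basicOpen (Ideal.Quotient.mk p.asIdeal f) : Set (PrimeSpectrum R')))) :=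
      PrimeSpectrum.isConstructible_comap_image
        (RingHom.FinitePresentation.of_surjective _ hφ (IsNoetherian.noetherian _)) hK
    have hcomm : ∀ Q : PrimeSpectrum A',
        π (comap φ Q) = comap (Ideal.Quotient.mk p.asIdeal) (comap (algebraMap R' A') Q) := fun Q => by
      show comap (algebraMap R A) (comap φ Q) = _
      rw [← comap_comp_apply, ← comap_comp_apply]
      exact congrArg (fun g => comap g Q)
        ((IsScalarTower.algebraMap_eq R A A').symm.trans (IsScalarTower.algebraMap_eq R R' A'))
    have heq : comap φ '' (comap φ ⁻¹' P R B A ∩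
        comap (algebraMap R' A') ⁻¹' (basicOpen (Ideal.Quotient.mk p.asIdeal f) : Set (PrimeSpectrum R'))) =
        P R B A ∩ π ⁻¹' (C ∩ basicOpen f) := by
      ext q
      constructor
      · rintro ⟨Q, ⟨hQ, hQf⟩, rfl⟩
        refine ⟨hQ, ?_, ?_⟩
        · rw [← hp.def, PrimeSpectrum.closure_singleton, hcomm]
          exact fun a ha => by
            simpa [Ideal.Quotient.eq_zero_iff_mem.2 ha] using
              Submodule.zero_mem (comap (algebraMap R' A') Q).asIdeal
        · rw [hcomm]
          exact hQf
      · rintro ⟨hq, hqC, hqf⟩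
        rw [← hp.def, PrimeSpectrum.closure_singleton] at hqC
        have hmem : q ∈ Set.range (comap (R := A) (S := A') φ) := by
          refine (range_comap_of_surjective A' φ hφ).ge ?_
          rw [mem_zeroLocus]
          let Ā := A ⧸ p.asIdeal.map (algebraMap R A)
          let ψB : B' →ₐ[R] Ā := Algebra.TensorProduct.lift
            (Ideal.quotientMapₐ _ (Algebra.ofId R A) Ideal.le_comap_map)
            ((Ideal.Quotient.mkₐ R _).comp (IsScalarTower.toAlgHom R B A)) fun _ _ => Commute.all _ _
          let ψB' : B' →ₐ[B] Ā := { ψB.toRingHom with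
            commutes' := fun b => by
              show ψB ((1 : R') ⊗ₜ[R] b) = _
              refine (Algebra.TensorProduct.lift_tmul _ _ _ _ _).trans ?_
              rw [map_one, one_mul]
              rfl }
          let ψ : A' →ₐ[B] Ā :=
            Algebra.TensorProduct.lift ψB' (Ideal.Quotient.mkₐ B _) fun _ _ => Commute.all _ _
          have hk : ∀ x : A, (1 : B') ⊗ₜ[B] x = 0 → x ∈ p.asIdeal.map (algebraMap R A) := fun x hx => by
            have h2 : ψ ((1 : B') ⊗ₜ[B] x) = Ideal.Quotient.mk (p.asIdeal.map (algebraMap R A)) x := by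
              refine (Algebra.TensorProduct.lift_tmul _ _ _ _ _).trans ?_
              rw [map_one, one_mul]
              rfl
            rw [← Ideal.Quotient.eq_zero_iff_mem, ← h2, hx, map_zero]
          exact fun x hx => (Ideal.map_le_iff_le_comap.2 hqC) (hk x hx)
        obtain ⟨Q, rfl⟩ := hmem
        refine ⟨Q, ⟨hq, ?_⟩, rfl⟩
        rw [hcomm] at hqf
        exact hqf
    have hsub : C \ basicOpen f ⊂ C := Groth.L06.Constr.sdiff_ssubset_of_nonempty ⟨p,
      fun h => hf0 (Ideal.Quotient.eq_zero_iff_mem.2 h), hp.mem⟩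
    have hsplit : P R B A ∩ π ⁻¹' C =
        (P R B A ∩ π ⁻¹' (C ∩ basicOpen f)) ∪ (P R B A ∩ π ⁻¹' (C \ basicOpen f)) := by
      rw [← Set.inter_union_distrib_left, ← Set.preimage_union, Set.inter_union_sdiff]
    show IsConstructible (P R B A ∩ π ⁻¹' C)
    rw [hsplit]
    exact (heq ▸ himg).union (ih _ (hC.sdiff (basicOpen f).2) hsub)
  · intro C D _ _ hC hD
    rw [Set.preimage_union, Set.inter_union_distrib_left]
    exact hC.union hD

/-- A base change equivalence makes the algebra a pushout. -/
theorem exists_algebra_of_equiv {R₀ A₀ R A : Type u} [CommRing R₀] [CommRing A₀] [Algebra R₀ A₀] [CommRing R]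
    [Algebra R₀ R] [CommRing A] [Algebra R A] [Algebra R₀ A] [IsScalarTower R₀ R A] (e : R ⊗[R₀] A₀ ≃ₐ[R] A) :
    ∃ (_ : Algebra A₀ A) (_ : IsScalarTower R₀ A₀ A), Algebra.IsPushout R₀ R A₀ A ∧
      ∀ x, algebraMap A₀ A x = e (1 ⊗ₜ x) := by
  letI : Algebra A₀ A := ((e : R ⊗[R₀] A₀ →+* A).comp
    (Algebra.TensorProduct.includeRight : A₀ →ₐ[R₀] R ⊗[R₀] A₀).toRingHom).toAlgebra
  haveI : IsScalarTower R₀ A₀ A := IsScalarTower.of_algebraMap_eq fun x => by
    show algebraMap R₀ A x = e (1 ⊗ₜ algebraMap R₀ A₀ x)
    rw [← Algebra.TensorProduct.algebraMap_apply', IsScalarTower.algebraMap_apply R₀ R (R ⊗[R₀] A₀),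
      e.commutes, ← IsScalarTower.algebraMap_apply]
  exact ⟨_, this, (letI : Algebra A₀ (R ⊗[R₀] A₀) := Algebra.TensorProduct.rightAlgebra
    Algebra.IsPushout.of_equiv e rfl), fun _ => rfl⟩

/-- A model over a Noetherian ring containing given elements. -/
theorem exists_model (R B : Type u) [CommRing R] [CommRing B] [Algebra R B] [Algebra.FinitePresentation R B]
    (E : Set B) (hE : E.Finite) :
    ∃ (R₀ : Subalgebra ℤ R) (B₀ : Type u) (_ : CommRing B₀) (_ : Algebra R₀ B₀)
      (_ : Algebra B₀ B) (_ : IsScalarTower R₀ B₀ B), IsNoetherianRing R₀ ∧ Algebra.FinitePresentation R₀ B₀ ∧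
      Algebra.IsPushout R₀ R B₀ B ∧ E ⊆ Set.range (algebraMap B₀ B) := by
  classical
  let PB := Algebra.Presentation.ofFinitePresentation R B
  let s : Set R := PB.coeffs ∪ ⋃ b ∈ hE.toFinset, ((PB.σ b).coeffs : Set R)
  have hs : s.Finite :=
    PB.finite_coeffs.union (hE.toFinset.finite_toSet.biUnion fun x _ => Finset.finite_toSet _)
  let R₀ : Subalgebra ℤ R := Algebra.adjoin ℤ s
  haveI : PB.HasCoeffs R₀ := ⟨fun x hx => ⟨⟨x, Algebra.subset_adjoin (Or.inl hx)⟩, rfl⟩⟩
  haveI : Algebra.FiniteType ℤ R₀ :=
    (Subalgebra.fg_iff_finiteType _).mp ⟨hs.toFinset, by simp [R₀]⟩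
  haveI : IsNoetherianRing R₀ := Algebra.FiniteType.isNoetherianRing ℤ R₀
  let eB := PB.tensorModelOfHasCoeffsEquiv R₀
  obtain ⟨inst, hst, hpo, halg⟩ := exists_algebra_of_equiv eB
  refine ⟨R₀, PB.ModelOfHasCoeffs R₀, inferInstance, inferInstance, inst, hst, inferInstance,
    inferInstance, hpo, fun b hb => ?_⟩
  obtain ⟨p, hp⟩ := (MvPolynomial.mem_range_map_iff_coeffs_subset (x := PB.σ b) (f := algebraMap R₀ R)).2
    (fun r hr => ⟨⟨r, Algebra.subset_adjoin (Or.inr (Set.mem_biUnion (hE.mem_toFinset.2 hb) hr))⟩, rfl⟩)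
  refine ⟨Ideal.Quotient.mk _ p, ?_⟩
  refine (halg _).trans ?_
  rw [Algebra.Presentation.tensorModelOfHasCoeffsEquiv_tmul, map_one, one_mul,
    ← MvPolynomial.aeval_map_algebraMap R, hp, Algebra.Generators.aeval_val_σ]

/-- A fibrewise property of a tower which is constructible generically is constructible. -/
theorem tisConstructible {P : TProp.{u}} (hbc : P.BC) (hgen : P.Generic)
    (R B A : Type u) [CommRing R] [CommRing B] [CommRing A]
    [Algebra R B] [Algebra B A] [Algebra R A] [IsScalarTower R B A]
    [Algebra.FinitePresentation R B] [Algebra.FinitePresentation B A] :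
    IsConstructible (P R B A) := by
  let PA := Algebra.Presentation.ofFinitePresentation B A
  obtain ⟨R₀, B₀, _, _, _, _, _, _, _, hE⟩ := exists_model R B PA.coeffs PA.finite_coeffs
  letI : Algebra B₀ A := ((algebraMap B A).comp (algebraMap B₀ B)).toAlgebra
  haveI : IsScalarTower B₀ B A := IsScalarTower.of_algebraMap_eq fun _ => rfl
  haveI : PA.HasCoeffs B₀ := ⟨hE⟩
  let eA := PA.tensorModelOfHasCoeffsEquiv B₀
  obtain ⟨_, _, _, -⟩ := exists_algebra_of_equiv eA
  haveI : IsScalarTower R₀ B A := IsScalarTower.of_algebraMap_eq fun x => by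
    rw [IsScalarTower.algebraMap_apply R₀ R A, IsScalarTower.algebraMap_apply R B A,
      ← IsScalarTower.algebraMap_apply R₀ R B]
  haveI : IsScalarTower R₀ B₀ A := IsScalarTower.of_algebraMap_eq fun x => by
    rw [IsScalarTower.algebraMap_apply B₀ B A, ← IsScalarTower.algebraMap_apply R₀ B₀ B,
      ← IsScalarTower.algebraMap_apply R₀ B A]
  haveI : IsScalarTower R₀ (PA.ModelOfHasCoeffs B₀) A :=
    IsScalarTower.of_algebraMap_eq (R := R₀) (S := PA.ModelOfHasCoeffs B₀) (A := A) fun x => by
    rw [IsScalarTower.algebraMap_apply R₀ B₀ (PA.ModelOfHasCoeffs B₀),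
      ← IsScalarTower.algebraMap_apply B₀ (PA.ModelOfHasCoeffs B₀) A, ← IsScalarTower.algebraMap_apply R₀ B₀ A]
  rw [hbc R₀ B₀ (PA.ModelOfHasCoeffs B₀) R B A]
  exact L02.Cons.isConstructible_comap_preimage _ (tisConstructible_of_noetherian hbc hgen R₀ B₀ (PA.ModelOfHasCoeffs B₀))

end Groth.L28.Fib
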